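import Cfsg.Agent.Lib.ConwayInvol.Words
import Cfsg.Agent.Lib.LargeXS.OfCommutators

/-! The extraspecial group of order `2^9` inside the centralizer of an octad sign change. -/

set_option autoImplicit false

namespace CfsgLib.ConwayInvol

open Cfsg CfsgLib CfsgLib.Leech

theorem none_mem : (none : GolayPt) ∈ oct := pts_mem 0

theorem mono_inj {a b : Equiv.Perm GolayPt} {ha : a ∈ M24} {hb : b ∈ M24} {c d : GolayPt → ZMod 2}
    {hc : c ∈ golayCode} {hd : d ∈ golayCode} (h : monoEl a ha c hc = monoEl b hb d hd) : a = b ∧ c = d := by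
  have e := monoMap_injective (a₁ := (⟨a, ha⟩, ⟨c, hc⟩)) (a₂ := (⟨b, hb⟩, ⟨d, hd⟩)) h
  exact ⟨congrArg (fun p : M24 × golayCode => p.1.1) e, congrArg (fun p : M24 × golayCode => p.2.1) e⟩

theorem negEl_eq : negEl = monoEl 1 (one_mem _) 1 one_mem_golayCode :=
  ext_eightVec fun i => Subtype.ext (funext fun j => by
    rw [coe_negEl_smul, coe_monoEl_smul]; simp [monoFun])

/-- The elements fixing the eight scaled unit vectors of the octad. -/
def Qt : Subgroup Co0 where
  carrier := {g | ∀ i ∈ oct, g • eightVec i = eightVec i}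
  one_mem' := fun i _ => one_smul _ _
  mul_mem' := fun {g h} hg hh i hi => by rw [mul_smul, hh i hi, hg i hi]
  inv_mem' := fun {g} hg i hi => by rw [inv_smul_eq_iff, hg i hi]

theorem mem_Qt_iff {g : Co0} : g ∈ Qt ↔ ∃ (τ : Equiv.Perm GolayPt) (hτ : τ ∈ M24Stab.ptStab oct)
    (c : GolayPt → ZMod 2) (hc : c ∈ golayCode), (∀ p ∈ oct, c p = 0) ∧
      g = monoEl τ (M24Stab.mem_ptStab.1 hτ).1 c hc := by
  constructor
  · intro hg
    obtain ⟨τ, hτ, c, hc, rfl⟩ := exists_mono_of_stdStab (stdStab_of_fix (hg none none_mem))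
    have key : ∀ i ∈ oct, τ⁻¹ i = i ∧ c i = 0 := fun i hi => by
      have h := congrArg (fun v : leechLattice => (v : GolayPt → ℤ) i) (hg i hi)
      simp only [coe_monoEl_smul, coe_eightVec, monoFun_single, Pi.single_eq_same] at h
      by_cases e : τ⁻¹ i = i
      · refine ⟨e, (F2Quad.zmod_two_cases (c i)).resolve_right fun hc1 => ?_⟩
        rw [e, Pi.single_eq_same, hc1] at h
        simp at h
      · rw [Pi.single_eq_of_ne (Ne.symm e)] at h
        omega
    refine ⟨τ, M24Stab.mem_ptStab.2 ⟨hτ, fun i hi => ?_⟩, c, hc, fun i hi => (key i hi).2, rfl⟩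
    exact (Equiv.Perm.inv_eq_iff_eq.1 (key i hi).1).symm
  · rintro ⟨τ, hτ, c, hc, h0, rfl⟩ i hi
    refine Subtype.ext ?_
    rw [coe_monoEl_smul, coe_eightVec, monoFun_single]
    have e : τ⁻¹ i = i := Equiv.Perm.inv_eq_iff_eq.2 ((M24Stab.mem_ptStab.1 hτ).2 i hi).symm
    simp [e, h0 i hi]

/-- Elements of the subgroup fix every vector supported on the octad. -/
theorem Qt_fix {g : Co0} (hg : g ∈ Qt) {v : leechLattice} (hv : ∀ p, p ∉ oct → (v : GolayPt → ℤ) p = 0) :
    g • v = v := by
  obtain ⟨τ, hτ, c, hc, h0, rfl⟩ := mem_Qt_iff.1 hg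
  refine Subtype.ext (funext fun p => ?_)
  rw [coe_monoEl_smul, monoFun]
  by_cases hp : p ∈ oct
  · simp [h0 p hp, (M24Stab.mem_ptStab.1 hτ).2 p hp]
  · have : τ p ∉ oct := fun h => hp ((M24Stab.preserves (M24Stab.ptStab_le hτ) p).1 h)
    simp [hv p hp, hv _ this]

theorem Qt_le : Qt ≤ Cent := by
  intro g hg
  obtain ⟨τ, hτ, c, hc, -, rfl⟩ := mem_Qt_iff.1 hg
  exact mono_mem_cent (M24Stab.ptStab_le hτ) hc

theorem negEl_not_mem : negEl ∉ Qt := fun h => by
  have := congrArg (fun v : leechLattice => (v : GolayPt → ℤ) none) (h none none_mem)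
  simp [coe_negEl_smul, coe_eightVec] at this

/-- Kernel elements lie in the subgroup up to sign. -/
theorem mem_or_neg_mem {τ : Equiv.Perm GolayPt} (hτ : τ ∈ M24Stab.ptStab oct) {c : GolayPt → ZMod 2}
    (hc : c ∈ golayCode) (hconst : ∀ p ∈ oct, c p = c none) :
    monoEl τ (M24Stab.mem_ptStab.1 hτ).1 c hc ∈ Qt ∨ negEl * monoEl τ (M24Stab.mem_ptStab.1 hτ).1 c hc ∈ Qt := by
  rcases F2Quad.zmod_two_cases (c none) with h | h
  · exact Or.inl (mem_Qt_iff.2 ⟨τ, hτ, c, hc, fun p hp => (hconst p hp).trans h, rfl⟩)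
  · right
    rw [negEl_eq, monoEl_mul]
    refine mem_Qt_iff.2 ⟨τ, hτ, 1 + c, golayCode.add_mem one_mem_golayCode hc, fun p hp => ?_, monoEl_congr (mul_one τ) rfl⟩
    show (1 : ZMod 2) + c p = 0
    rw [hconst p hp, h]
    rfl

theorem card_Qt : Nat.card Qt = 2 ^ 9 := by
  let W := {c : GolayPt → ZMod 2 // c ∈ golayCode ∧ ∀ p ∈ oct, c p = 0}
  let f : M24Stab.ptStab oct × W → Qt := fun x =>
    ⟨monoEl x.1.1 (M24Stab.mem_ptStab.1 x.1.2).1 x.2.1 x.2.2.1, mem_Qt_iff.2 ⟨_, x.1.2, _, x.2.2.1, x.2.2.2, rfl⟩⟩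
  have hf : Function.Bijective f := by
    refine ⟨fun x y h => ?_, fun g => ?_⟩
    · have e : monoEl x.1.1 (M24Stab.mem_ptStab.1 x.1.2).1 x.2.1 x.2.2.1 =
          monoEl y.1.1 (M24Stab.mem_ptStab.1 y.1.2).1 y.2.1 y.2.2.1 := congrArg Subtype.val h
      obtain ⟨h1, h2⟩ := mono_inj e
      exact Prod.ext (Subtype.ext h1) (Subtype.ext h2)
    · obtain ⟨τ, hτ, c, hc, h0, e⟩ := mem_Qt_iff.1 g.2
      exact ⟨(⟨τ, hτ⟩, ⟨c, hc, h0⟩), Subtype.ext e.symm⟩
  rw [← Nat.card_eq_of_bijective f hf, Nat.card_prod,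
    show Nat.card (M24Stab.ptStab oct) = 16 from (Golay.octad_pointwise oct_mem).1]
  have hW : Nat.card W = 32 := by
    let g : Fin disList.length → W := fun i =>
      ⟨Golay.toWord (Golay.comb disList[i]), disList_vanish (List.getElem_mem i.2)⟩
    have hg : Function.Bijective g := by
      refine ⟨fun i j h => ?_, fun c => ?_⟩
      · have hi := (disList_check.2.1 _ (List.getElem_mem i.2)).1
        have hj := (disList_check.2.1 _ (List.getElem_mem j.2)).1
        have := Golay.comb_injOn hi hj (Golay.toWord_inj (Golay.comb_lt hi) (Golay.comb_lt hj) (congrArg Subtype.val h))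
        exact Fin.ext (disList_check.2.2.1.getElem_inj_iff.1 this)
      · obtain ⟨x, hx, e⟩ := exists_disList c.2.1 c.2.2
        obtain ⟨i, hi, rfl⟩ := List.getElem_of_mem hx
        exact ⟨⟨i, hi⟩, Subtype.ext e⟩
    rw [← Nat.card_eq_of_bijective g hg, Nat.card_fin, disList_check.2.2.2]
  rw [hW]; norm_num

/-- The sign change on the complement. -/
def coEl : Co0 := monoEl 1 (one_mem _) coWord coWord_mem

theorem coEl_mem : coEl ∈ Qt :=
  mem_Qt_iff.2 ⟨1, one_mem _, coWord, coWord_mem, fun p hp => by simp [coWord_apply, hp], rfl⟩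

theorem coEl_ne_one : coEl ≠ 1 := fun h => by
  rw [coEl, ← monoEl_one] at h
  have := congrFun (mono_inj h).2 (Golay.pt 3)
  rw [coWord_apply, if_neg off_oct] at this
  exact absurd this (by decide)

theorem extraspecial_Qt : Cfsg.IsExtraspecial 2 Qt := by
  haveI : Fact (Nat.Prime 2) := ⟨Nat.prime_two⟩
  refine LargeXS.isExtraspecial_of (IsPGroup.of_card card_Qt) (c := ⟨coEl, coEl_mem⟩)
    (fun h => coEl_ne_one (congrArg Subtype.val h)) ?_ ?_ ?_ ?_ ?_
  · -- commutators
    rintro ⟨x, hx⟩ ⟨y, hy⟩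
    obtain ⟨σ, hσ, c, hc, hc0, rfl⟩ := mem_Qt_iff.1 hx
    obtain ⟨σ', hσ', c', hc', hc0', rfl⟩ := mem_Qt_iff.1 hy
    generalize hX : (⟨_, hx⟩ : Qt) = X
    generalize hY : (⟨_, hy⟩ : Qt) = Y
    have hd : c + c ∘ σ' + (c' + c' ∘ σ) = 0 ∨ c + c ∘ σ' + (c' + c' ∘ σ) = coWord := by
      rcases translate hσ' hc hc0 with e | e <;> rcases translate hσ hc' hc0' with e' | e' <;> rw [e, e']
      · exact Or.inl (add_zero _)
      · exact Or.inr (zero_add _)
      · exact Or.inr (add_zero _)
      · exact Or.inl (funext fun p => CharTwo.add_self_eq_zero _)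
    rcases hd with h | h
    · left
      have e : X * Y = Y * X := by
        subst hX; subst hY
        refine Subtype.ext ?_
        rw [Subgroup.coe_mul, Subgroup.coe_mul, monoEl_mul, monoEl_mul]
        refine monoEl_congr (ptStab_comm hσ' hσ) (funext fun p => ?_)
        have := congrFun h p
        simp only [Pi.add_apply, Function.comp_apply, Pi.zero_apply] at this ⊢
        rw [← CharTwo.add_eq_zero]
        rw [← this]; ring
      rw [e, mul_inv_cancel_right, mul_inv_cancel]
    · right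
      have e : X * Y = ⟨coEl, coEl_mem⟩ * (Y * X) := by
        subst hX; subst hY
        refine Subtype.ext ?_
        rw [Subgroup.coe_mul, Subgroup.coe_mul, Subgroup.coe_mul, monoEl_mul, monoEl_mul]
        show _ = monoEl 1 (one_mem _) coWord coWord_mem * _
        rw [monoEl_mul]
        refine monoEl_congr ((ptStab_comm hσ' hσ).trans (mul_one _).symm) (funext fun p => ?_)
        have := congrFun h p
        simp only [Pi.add_apply, Function.comp_apply, Equiv.Perm.one_apply] at this ⊢
        rw [← this]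
        have a := CharTwo.add_self_eq_zero (c' p)
        have b := CharTwo.add_self_eq_zero (c (σ' p))
        linear_combination -a - b
      rw [e]; group
  · -- squares
    rintro ⟨x, hx⟩
    obtain ⟨σ, hσ, c, hc, hc0, rfl⟩ := mem_Qt_iff.1 hx
    have hss : σ * σ = 1 := (Golay.octad_pointwise oct_mem).2 σ hσ
    rcases translate hσ hc hc0 with e | e
    · left
      refine Subtype.ext ?_
      rw [Subgroup.coe_mul, Subgroup.coe_one, monoEl_mul, ← monoEl_one]
      exact monoEl_congr hss e
    · right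
      refine Subtype.ext ?_
      rw [Subgroup.coe_mul, monoEl_mul]
      show _ = monoEl 1 (one_mem _) coWord coWord_mem
      exact monoEl_congr hss e
  · -- centre
    rintro ⟨x, hx⟩ hall
    obtain ⟨σ, hσ, c, hc, hc0, rfl⟩ := mem_Qt_iff.1 hx
    have hσ1 : σ = 1 := by
      by_contra hne
      obtain ⟨c', hc', hc0', hmv⟩ := exists_moved hσ hne
      have h := congrArg Subtype.val (hall ⟨_, mem_Qt_iff.2 ⟨1, one_mem _, c', hc', hc0', rfl⟩⟩)
      rw [Subgroup.coe_mul, Subgroup.coe_mul, monoEl_mul, monoEl_mul] at h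
      refine hmv (funext fun p => ?_)
      have := congrFun (mono_inj h).2 p
      simp only [Pi.add_apply, Function.comp_apply, Equiv.Perm.one_apply, Pi.zero_apply] at this ⊢
      rw [CharTwo.add_eq_zero]
      exact add_right_cancel (this.trans (add_comm _ _))
    subst hσ1
    have hinv : ∀ s ∈ M24Stab.ptStab oct, c ∘ s = c := fun s hs => by
      have h := congrArg Subtype.val (hall ⟨_, mem_Qt_iff.2 ⟨s, hs, 0, zero_mem _, fun _ _ => rfl, rfl⟩⟩)
      rw [Subgroup.coe_mul, Subgroup.coe_mul, monoEl_mul, monoEl_mul] at h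
      funext p
      have := congrFun (mono_inj h).2 p
      simpa using this
    obtain ⟨a, ha⟩ := eq_of_invariant hc hinv
    have h0 := hc0 none none_mem
    rcases ha with ha | ha
    · left
      have han := congrFun ha none
      simp [h0] at han
      subst han
      refine Subtype.ext ?_
      rw [Subgroup.coe_one, ← monoEl_one]
      show monoEl 1 (one_mem _) c hc = monoEl 1 (one_mem _) 0 (zero_mem _)
      exact monoEl_congr rfl (by simpa using ha)
    · right
      have han := congrFun ha none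
      simp [h0, octWord_apply, none_mem] at han
      subst han
      refine Subtype.ext ?_
      show monoEl 1 (one_mem _) c hc = monoEl 1 (one_mem _) coWord coWord_mem
      refine monoEl_congr rfl ?_
      rw [coWord_eq, ← ha]
      funext p
      simp [add_left_comm, CharTwo.add_self_eq_zero]
  · rintro ⟨y, hy⟩
    obtain ⟨σ, hσ, c, hc, hc0, rfl⟩ := mem_Qt_iff.1 hy
    refine Subtype.ext ?_
    rw [Subgroup.coe_mul, Subgroup.coe_mul]
    show _ * monoEl 1 (one_mem _) coWord coWord_mem = monoEl 1 (one_mem _) coWord coWord_mem * _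
    rw [monoEl_mul, monoEl_mul]
    refine monoEl_congr (by rw [mul_one, one_mul]) (funext fun p => ?_)
    have : coWord (σ p) = coWord p := by
      rw [coWord_apply, coWord_apply]; simp only [M24Stab.preserves (M24Stab.ptStab_le hσ) p]
    simp [this, add_comm]
  · refine ⟨⟨_, mem_Qt_iff.2 ⟨1, one_mem _, Golay.toWord (Golay.comb 56),
      (disList_vanish (show 56 ∈ disList by decide)).1, (disList_vanish (show 56 ∈ disList by decide)).2, rfl⟩⟩,
      fun h => ?_, fun h => ?_⟩
    · have := mono_inj (ha := one_mem _) (hc := Golay.toWord_comb_mem 56) ((congrArg Subtype.val h).trans monoEl_one.symm)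
      have := congrFun this.2 (Golay.pt 3)
      revert this
      decide +kernel
    · have := congrArg Subtype.val h
      have := congrFun (mono_inj (ha := one_mem _) (hb := one_mem _) (hc := Golay.toWord_comb_mem 56) (hd := coWord_mem) this).2
      have h2 : ∃ p, Golay.toWord (Golay.comb 56) p ≠ coWord p := by decide +kernel
      obtain ⟨p, hp⟩ := h2
      exact hp (this p)

end CfsgLib.ConwayInvol
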