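import Cfsg.Prelude.Def_Spor_Conway
import Cfsg.Prelude.Def_Local
import Cfsg.Agent.Lib.ConwayInvol.Extra
import Cfsg.Agent.Lib.LargeXS.Congr
import Cfsg.Agent.Lib.Components.GenFitting
import Cfsg.Agent.Lib.Components.Subnormal
import Cfsg.Agent.Lib.Solvable.Core
import Cfsg.Agent.Lib.Leech.Simple.Co1

/-! The centralizer of an involution of the first Conway group. -/

set_option autoImplicit false

namespace CfsgLib.ConwayInvol

open Cfsg CfsgLib CfsgLib.Leech

/-- The projection to the quotient by the centre. -/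
def projCo : Co0 →* Spor.Co1 := QuotientGroup.mk' (Subgroup.center Co0)

theorem projCo_eq_iff {g h : Co0} : projCo g = projCo h ↔ g = h ∨ negEl * g = h := by
  rw [projCo, QuotientGroup.mk'_apply, QuotientGroup.mk'_apply, QuotientGroup.eq, ← SetLike.mem_coe, center_eq,
    Set.mem_insert_iff, Set.mem_singleton_iff, inv_mul_eq_one]
  refine or_congr_right ⟨fun e => ?_, fun e => ?_⟩
  · rw [← negEl_comm, ← e, mul_inv_cancel_left]
  · rw [← e, ← negEl_comm, inv_mul_cancel_left]

/-- The involution. -/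
def zInv : Spor.Co1 := projCo tInv

theorem not_neg (g : Co0) : g * tInv ≠ negEl * (tInv * g) := by
  intro h
  -- the sixteen orthogonal images would lie in eight dimensions
  let S := {p : GolayPt // p ∉ oct}
  let W : Matrix S (Fin 8) ℚ := fun p k => ((((g • eightVec p.1 : leechLattice) : GolayPt → ℤ) (pts k) : ℤ) : ℚ)
  have hsupp : ∀ p : S, ∀ q, q ∉ oct → ((g • eightVec p.1 : leechLattice) : GolayPt → ℤ) q = 0 := by
    intro p q hq
    have ht : tInv • eightVec p.1 = eightVec p.1 := by
      refine Subtype.ext (funext fun r => ?_)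
      rw [coe_tInv_smul, coe_eightVec]
      by_cases hr : r ∈ oct
      · have : r ≠ p.1 := fun e => p.2 (e ▸ hr)
        simp [hr, Pi.single_eq_of_ne this]
      · simp [hr]
    have h2 := congrArg (fun x : Co0 => ((x • eightVec p.1 : leechLattice) : GolayPt → ℤ) q) h
    simp only [mul_smul, ht, coe_negEl_smul, coe_tInv_smul, Pi.neg_apply, if_neg hq] at h2
    omega
  have hgram : W * W.transpose = (64 : ℚ) • (1 : Matrix S S ℚ) := by
    ext p q
    have hd : dotInt ((g • eightVec p.1 : leechLattice) : GolayPt → ℤ) ((g • eightVec q.1 : leechLattice) : GolayPt → ℤ) =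
        if p = q then 64 else 0 := by
      rw [dotInt_smul, coe_eightVec q.1, dotInt_single, coe_eightVec]
      by_cases e : p = q
      · subst e; simp
      · have : q.1 ≠ p.1 := fun e' => e (Subtype.ext e'.symm)
        simp [e, Pi.single_eq_of_ne this]
    rw [dotInt, ← Finset.sum_subset (Finset.subset_univ (Finset.univ.image pts)),
      Finset.sum_image (fun a _ b _ e => pts_inj e)] at hd
    · show ∑ k, W p k * W q k = (64 : ℚ) * (1 : Matrix S S ℚ) p q
      simp only [W, Matrix.one_apply]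
      rw [← Nat.cast_ofNat (R := ℚ)]
      have := congrArg (fun n : ℤ => (n : ℚ)) hd
      push_cast at this
      rw [this]
      by_cases e : p = q <;> simp [e]
    · intro r _ hr
      have : r ∉ oct := fun h' => hr (by
        obtain ⟨k, rfl⟩ := (mem_oct_iff r).1 h'
        exact Finset.mem_image_of_mem _ (Finset.mem_univ k))
      rw [hsupp p r this, zero_mul]
  have h8 : (W * W.transpose).rank ≤ 8 :=
    (Matrix.rank_mul_le_left W W.transpose).trans ((Matrix.rank_le_card_width W).trans (by simp))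
  have h16 : (W * W.transpose).rank = Fintype.card S := by
    rw [hgram]
    refine Matrix.rank_of_isUnit _ ?_
    rw [Matrix.isUnit_iff_isUnit_det, Matrix.det_smul, Matrix.det_one, mul_one]
    exact isUnit_iff_ne_zero.2 (pow_ne_zero _ (by norm_num))
  have hS : Fintype.card S = 16 := by
    rw [Fintype.card_subtype]
    decide +kernel
  omega

theorem exists_lift {x : Spor.Co1} (hx : x ∈ Subgroup.centralizer ({zInv} : Set Spor.Co1)) :
    ∃ g : Cent, projCo g.1 = x := by
  obtain ⟨g, rfl⟩ := QuotientGroup.mk'_surjective _ x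
  rw [Subgroup.mem_centralizer_singleton_iff] at hx
  have hx' : projCo (g * tInv) = projCo (tInv * g) := by rw [map_mul, map_mul]; exact hx
  rcases projCo_eq_iff.1 hx' with e | e
  · exact ⟨⟨g, Subgroup.mem_centralizer_singleton_iff.2 e⟩, rfl⟩
  · exfalso
    refine not_neg g ?_
    rw [← e, ← mul_assoc negEl negEl, sq_negEl, one_mul]

/-- The restriction of the projection. -/
def projCent : Cent →* Subgroup.centralizer ({zInv} : Set Spor.Co1) :=
  (projCo.comp Cent.subtype).codRestrict _ fun g => by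
    rw [Subgroup.mem_centralizer_singleton_iff]
    show projCo g.1 * projCo tInv = projCo tInv * projCo g.1
    rw [← map_mul, ← map_mul, comm_tInv]

theorem projCent_surjective : Function.Surjective projCent := fun x => by
  obtain ⟨g, hg⟩ := exists_lift x.2
  exact ⟨g, Subtype.ext hg⟩

theorem negEl_mem_cent : negEl ∈ Cent :=
  Subgroup.mem_centralizer_singleton_iff.2 (negEl_comm tInv).symm

theorem rho_negEl : rho ⟨negEl, negEl_mem_cent⟩ = 1 :=
  rho_eq_one_of_fix fun v _ => Or.inr (negEl_smul v)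

theorem rho_Qt {g : Cent} (hg : g.1 ∈ Qt) : rho g = 1 :=
  rho_eq_one_of_fix fun _ hv => Or.inl (Qt_fix hg hv)

theorem rho_ker {g : Cent} (hg : rho g = 1) : g.1 ∈ Qt ∨ negEl * g.1 ∈ Qt := by
  obtain ⟨τ, hτ, c, hc, e, hconst⟩ := ker_rho hg
  rw [e]
  exact mem_or_neg_mem hτ hc hconst

theorem projCent_ker_le : projCent.ker ≤ rho.ker := by
  intro g hg
  have h : projCo g.1 = projCo 1 := by rw [map_one]; exact congrArg Subtype.val hg
  rw [MonoidHom.mem_ker]
  rcases projCo_eq_iff.1 h with e | e
  · rw [show g = 1 from Subtype.ext e, map_one]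
  · have : g = ⟨negEl, negEl_mem_cent⟩ := Subtype.ext (by
      show g.1 = negEl
      rw [← mul_one negEl, ← e, ← mul_assoc, sq_negEl, one_mul])
    rw [this, rho_negEl]

/-- The subgroup inside the centralizer. -/
def QC : Subgroup (Subgroup.centralizer ({zInv} : Set Spor.Co1)) := (Qt.subgroupOf Cent).map projCent

/-- The induced action. -/
noncomputable def rhoBar : Subgroup.centralizer ({zInv} : Set Spor.Co1) →* Omega (ZMod 2) (quadFormPlus 4 (ZMod 2)) :=
  projCent.liftOfRightInverse _ (Function.rightInverse_surjInv projCent_surjective)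
    ⟨rho.codRestrict _ fun g => range_rho ▸ ⟨g, rfl⟩, fun g hg => Subtype.ext (projCent_ker_le hg)⟩

theorem rhoBar_proj (g : Cent) : (rhoBar (projCent g)).1 = rho g := by
  rw [rhoBar, MonoidHom.liftOfRightInverse_comp_apply]
  rfl

theorem rhoBar_surjective : Function.Surjective rhoBar := fun w => by
  obtain ⟨g, hg⟩ : w.1 ∈ rho.range := range_rho.symm ▸ w.2
  exact ⟨projCent g, Subtype.ext ((rhoBar_proj g).trans hg)⟩

theorem mem_QC_of_up_to_sign {g : Cent} (h : g.1 ∈ Qt ∨ negEl * g.1 ∈ Qt) : projCent g ∈ QC := by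
  rcases h with h | h
  · exact ⟨g, h, rfl⟩
  · refine ⟨⟨negEl * g.1, Qt_le h⟩, h, Subtype.ext ?_⟩
    show projCo (negEl * g.1) = projCo g.1
    rw [projCo_eq_iff]
    exact Or.inr (by rw [← mul_assoc, sq_negEl, one_mul])

theorem ker_rhoBar : rhoBar.ker = QC := by
  ext x
  obtain ⟨g, rfl⟩ := projCent_surjective x
  rw [MonoidHom.mem_ker]
  constructor
  · intro h
    exact mem_QC_of_up_to_sign (rho_ker (by rw [← rhoBar_proj, h]; rfl))
  · rintro ⟨q, hq, e⟩
    rw [← e]
    exact Subtype.ext ((rhoBar_proj q).trans (rho_Qt hq))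

theorem QC_normal : QC.Normal := ker_rhoBar ▸ rhoBar.normal_ker

/-- The identification with the extraspecial group. -/
noncomputable def qEquiv : Qt ≃* QC :=
  MulEquiv.ofBijective
    ({ toFun := fun q => ⟨projCent ⟨q.1, Qt_le q.2⟩, ⟨_, q.2, rfl⟩⟩
       map_one' := Subtype.ext (map_one projCent)
       map_mul' := fun a b => Subtype.ext (map_mul projCent ⟨a.1, Qt_le a.2⟩ ⟨b.1, Qt_le b.2⟩) } : Qt →* QC)
    ⟨fun a b h => by
      have h' : projCo a.1 = projCo b.1 := congrArg (fun y : QC => y.1.1) h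
      rcases projCo_eq_iff.1 h' with e | e
      · exact Subtype.ext e
      · refine absurd ?_ negEl_not_mem
        have : negEl = b.1 * a.1⁻¹ := by rw [← e, mul_inv_cancel_right]
        rw [this]
        exact mul_mem b.2 (inv_mem a.2),
    fun y => by
      obtain ⟨q, hq, e⟩ := y.2
      exact ⟨⟨q.1, hq⟩, Subtype.ext e⟩⟩

theorem extraspecial_QC : Cfsg.IsExtraspecial 2 QC := LargeXS.isExtraspecial_congr qEquiv extraspecial_Qt

theorem card_QC : Nat.card QC = 2 ^ 9 := (Nat.card_congr qEquiv.toEquiv).symm.trans card_Qt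

theorem Qt_normal_conj {g : Cent} {q : Co0} (hq : q ∈ Qt) : g.1 * q * g.1⁻¹ ∈ Qt := by
  intro i hi
  rw [mul_smul, mul_smul, Qt_fix hq, smul_inv_smul]
  exact supported_smul g⁻¹ (v := eightVec i) fun p hp => by
    rw [coe_eightVec, Pi.single_eq_of_ne]
    rintro rfl
    exact hp hi

theorem centralizer_QC_le : Subgroup.centralizer (QC : Set (Subgroup.centralizer ({zInv} : Set Spor.Co1))) ≤ QC := by
  intro x hx
  obtain ⟨g, rfl⟩ := projCent_surjective x
  have hcomm : ∀ q ∈ Qt, g.1 * q = q * g.1 := by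
    intro q hq
    have h1 := Subgroup.mem_centralizer_iff.1 hx (projCent ⟨q, Qt_le hq⟩) ⟨_, hq, rfl⟩
    have h2 : projCo (q * g.1) = projCo (g.1 * q) := by
      rw [map_mul, map_mul]; exact congrArg Subtype.val h1
    rcases projCo_eq_iff.1 h2 with e | e
    · exact e.symm
    · refine absurd ?_ negEl_not_mem
      have : negEl = g.1 * q * g.1⁻¹ * q⁻¹ := by
        rw [← e]
        simp only [mul_assoc, mul_inv_cancel_left, mul_inv_cancel, mul_one]
      rw [this]
      exact mul_mem (Qt_normal_conj hq) (inv_mem hq)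
  -- each outside coordinate axis is preserved
  have hfix : ∀ p, p ∉ oct → g.1 • eightVec p = eightVec p ∨ g.1 • eightVec p = -eightVec p := by
    intro p hp
    have hz : ∀ j, j ≠ p → ((g.1 • eightVec p : leechLattice) : GolayPt → ℤ) j = 0 := by
      intro j hj
      by_cases hjo : j ∈ oct
      · refine vanishing_smul g (fun r hr => ?_) j hjo
        rw [coe_eightVec, Pi.single_eq_of_ne]
        rintro rfl
        exact hp hr
      · obtain ⟨c, hc, hc0, hcp, hcj⟩ := separate hp hjo hj
        have hmem : monoEl 1 (one_mem _) c hc ∈ Qt := mem_Qt_iff.2 ⟨1, one_mem _, c, hc, hc0, rfl⟩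
        have h1 : monoEl 1 (one_mem _) c hc • eightVec p = eightVec p := by
          refine Subtype.ext ?_
          rw [coe_monoEl_smul, coe_eightVec, monoFun_single]
          simp [hcp]
        have h2 := congrArg (fun v : leechLattice => (v : GolayPt → ℤ) j)
          (congrArg (fun h : Co0 => h • eightVec p) (hcomm _ hmem))
        simp only [mul_smul, h1, coe_monoEl_smul, monoFun, Equiv.Perm.one_apply, hcj, if_true] at h2
        omega
    have hn := (sqNorm_smul g.1 (eightVec p)).trans (sqNorm_eightVec p)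
    rw [sqNorm, Finset.sum_eq_single p (fun j _ hj => by rw [hz j hj]; rfl) (fun h => absurd (Finset.mem_univ p) h)] at hn
    rcases (sq_eq_sq_iff_eq_or_eq_neg.1 (hn.trans (by norm_num : (64 : ℤ) = 8 ^ 2))) with h | h
    · refine Or.inl (Subtype.ext (funext fun j => ?_))
      by_cases hj : j = p
      · subst hj; simp [h, coe_eightVec]
      · rw [hz j hj]; simp [coe_eightVec, hj]
    · refine Or.inr (Subtype.ext (funext fun j => ?_))
      by_cases hj : j = p
      · subst hj; simp [h, coe_eightVec]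
      · rw [hz j hj]; simp [coe_eightVec, hj]
  have hstd : StdStab g.1 := by
    refine stdStab_of_cong (i := Golay.pt 3) (j := Golay.pt 3) ?_
    rcases hfix _ off_oct with e | e <;> rw [e]
    · exact ⟨0, by simp⟩
    · exact cong_neg _
  obtain ⟨τ, hτ, c, hc, s, hg, -⟩ := exists_mono_of_stdStab' g hstd
  have hτfix : ∀ p, p ∉ oct → τ p = p := by
    intro p hp
    by_contra hne
    have hne' : p ≠ Equiv.symm τ p := fun e => hne (by
      conv_lhs => rw [e]
      exact Equiv.apply_symm_apply τ p)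
    rcases hfix p hp with e | e <;>
      · have h := congrArg (fun v : leechLattice => (v : GolayPt → ℤ) p) e
        simp [hg, coe_monoEl_smul, coe_eightVec, monoFun_single, Pi.single_eq_of_ne hne'] at h
  have hτ1 : τ = 1 := by
    have ho : Golay.toSet (Golay.comb 56) ∈ octads := toWord_comb_octad (by norm_num) (by decide +kernel)
    have hout : ∀ p, p ∈ Golay.toSet (Golay.comb 56) → p ∉ oct := by decide +kernel
    have h6 : Golay.pt 6 ∉ Golay.toSet (Golay.comb 56) ∧ Golay.pt 6 ∉ oct := by decide +kernel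
    exact (M24Stab.regular ho h6.1).2 τ
      (M24Stab.mem_ptStab.2 ⟨(M24Stab.mem_setStab.1 hτ).1, fun p hp => hτfix p (hout p hp)⟩) (hτfix _ h6.2)
  subst hτ1
  have hinv : ∀ σ ∈ M24Stab.ptStab oct, c ∘ σ = c := by
    intro σ hσ
    have h := hcomm _ (mem_Qt_iff.2 ⟨σ, hσ, 0, zero_mem _, fun _ _ => rfl, rfl⟩)
    rw [hg, monoEl_mul, monoEl_mul] at h
    funext p
    have := congrFun (mono_inj h).2 p
    simpa using this.symm
  obtain ⟨a, ha⟩ := eq_of_invariant hc hinv
  refine mem_QC_of_up_to_sign ?_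
  rw [hg]
  refine mem_or_neg_mem (one_mem _) hc fun p hp => ?_
  have hp1 : (c + a • (1 : GolayPt → ZMod 2)) p = (c + a • (1 : GolayPt → ZMod 2)) none := by
    rcases ha with ha | ha <;> rw [ha]
    · rfl
    · rw [octWord_apply, octWord_apply, if_pos hp, if_pos none_mem]
  simp only [Pi.add_apply, Pi.smul_apply, Pi.one_apply, smul_eq_mul, mul_one] at hp1
  exact add_right_cancel hp1

theorem genFitting_eq : Cfsg.generalizedFittingSubgroup (Subgroup.centralizer ({zInv} : Set Spor.Co1)) = QC := by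
  haveI : Fact (Nat.Prime 2) := ⟨Nat.prime_two⟩
  obtain ⟨hsimple, hcen⟩ := omega_simple
  have hn := QC_normal
  have hle : QC ≤ Cfsg.fittingSubgroup (Subgroup.centralizer ({zInv} : Set Spor.Co1)) :=
    Components.le_fitting_of_normal hn (IsPGroup.of_card card_QC).isNilpotent
  have hge : Cfsg.fittingSubgroup (Subgroup.centralizer ({zInv} : Set Spor.Co1)) ≤ QC := by
    rw [← ker_rhoBar, ← Subgroup.map_eq_bot_iff]
    have hnorm : ((Cfsg.fittingSubgroup (Subgroup.centralizer ({zInv} : Set Spor.Co1))).map rhoBar).Normal :=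
      Subgroup.Normal.map inferInstance _ rhoBar_surjective
    refine hnorm.eq_bot_or_eq_top.resolve_right fun htop => ?_
    haveI : Group.IsNilpotent ↥(Cfsg.fittingSubgroup (Subgroup.centralizer ({zInv} : Set Spor.Co1))) :=
      Solvable.fittingSubgroup_isNilpotent _
    haveI : Group.IsNilpotent ↥(Omega (ZMod 2) (quadFormPlus 4 (ZMod 2))) :=
      Group.nilpotent_of_surjective (rhoBar.comp (Cfsg.fittingSubgroup _).subtype) (fun w => by
        obtain ⟨y, hy, e⟩ : w ∈ (Cfsg.fittingSubgroup _).map rhoBar := htop ▸ Subgroup.mem_top w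
        exact ⟨⟨y, hy⟩, e⟩)
    haveI := hsimple
    exact Group.IsNilpotent.center_ne_bot _ hcen
  have hfit := le_antisymm hge hle
  refine (Components.genFitting_eq_fitting_of_layer_eq_bot ?_).trans hfit
  exact Components.centralizer_fitting_le_iff.1 (by rw [hfit]; exact centralizer_QC_le)

theorem tInv_sq : tInv * tInv = 1 := by
  rw [tInv, monoEl_mul, ← monoEl_one]
  exact monoEl_congr (mul_one 1) (funext fun p => CharTwo.add_self_eq_zero _)

theorem orderOf_zInv : orderOf zInv = 2 := by
  refine orderOf_eq_prime (p := 2) ?_ ?_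
  · rw [pow_two, zInv, ← map_mul, tInv_sq, map_one]
  · intro h
    rcases projCo_eq_iff.1 (h.trans (map_one projCo).symm) with e | e
    · rw [tInv, ← monoEl_one] at e
      have := congrFun (mono_inj e).2 none
      simp [octWord_apply, none_mem] at this
    · rw [negEl_eq, tInv, monoEl_mul, ← monoEl_one] at e
      have := congrFun (mono_inj e).2 (Golay.pt 3)
      simp [octWord_apply, off_oct] at this

theorem octad56_check : Golay.pc24 (Golay.comb 56) = 8 ∧
    (∀ p ∈ oct, p ∉ Golay.toSet (Golay.comb 56)) ∧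
      Golay.pt 6 ∉ Golay.toSet (Golay.comb 56) ∧ Golay.pt 6 ∉ oct := by decide +kernel

/-- Some other conjugate of the involution lies in the subgroup. -/
theorem exists_conj : ∃ g : Spor.Co1,
    (∃ hq : g * zInv * g⁻¹ ∈ Subgroup.centralizer ({zInv} : Set Spor.Co1),
      (⟨g * zInv * g⁻¹, hq⟩ : Subgroup.centralizer ({zInv} : Set Spor.Co1)) ∈ QC) ∧ g * zInv * g⁻¹ ≠ zInv := by
  obtain ⟨h8, hd, h6, h6'⟩ := octad56_check
  obtain ⟨τ, hτ, hw⟩ := exists_word_smul (m := octMask) oct_mem
    (toWord_comb_octad (x := 56) (by norm_num) h8)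
  have hwm : Golay.toWord (Golay.comb 56) ∈ golayCode := Golay.toWord_comb_mem 56
  have hw0 : ∀ p ∈ oct, Golay.toWord (Golay.comb 56) p = 0 := fun p hp => by
    have := hd p hp
    rw [Golay.mem_toSet] at this
    simp [Golay.toWord, this]
  have hq : monoEl 1 (one_mem _) _ hwm ∈ Qt := mem_Qt_iff.2 ⟨1, one_mem _, _, hwm, hw0, rfl⟩
  have hconj : projCo (monoEl τ hτ 0 (zero_mem _)) * zInv * (projCo (monoEl τ hτ 0 (zero_mem _)))⁻¹ =
      projCo (monoEl 1 (one_mem _) _ hwm) := by
    rw [zInv, ← map_inv, ← map_mul, ← map_mul, monoEl_inv, tInv, monoEl_mul, monoEl_mul]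
    refine congrArg projCo (monoEl_congr (by simp) (funext fun p => ?_))
    rw [hw]
    simp [octWord]
  refine ⟨projCo (monoEl τ hτ 0 (zero_mem _)), ⟨?_, ?_⟩, ?_⟩
  · rw [hconj]; exact (projCent ⟨_, Qt_le hq⟩).2
  · exact ⟨⟨_, Qt_le hq⟩, hq, Subtype.ext hconj.symm⟩
  · rw [hconj]
    intro h
    rcases projCo_eq_iff.1 h with e | e
    · have := congrFun (mono_inj e).2 none
      simp [octWord_apply, none_mem, hw0 none none_mem] at this
    · rw [negEl_eq, tInv, monoEl_mul] at e
      have := congrFun (mono_inj e).2 (Golay.pt 6)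
      rw [Golay.mem_toSet] at h6
      simp [octWord_apply, h6', Golay.toWord, h6] at this

theorem satisfies_hypothesis :
    ∃ z : Spor.Co1, orderOf z = 2 ∧ ∃ (Q : Subgroup (Subgroup.centralizer ({z} : Set Spor.Co1))) (_ : Q.Normal),
      Cfsg.generalizedFittingSubgroup (Subgroup.centralizer ({z} : Set Spor.Co1)) = Q ∧ Cfsg.IsExtraspecial 2 Q ∧
      Nat.card Q = 2 ^ 9 ∧ Nonempty ((Subgroup.centralizer ({z} : Set Spor.Co1)) ⧸ Q ≃* Omega (ZMod 2) (quadFormPlus 4 (ZMod 2))) ∧
      ∃ g : Spor.Co1, (∃ hq : g * z * g⁻¹ ∈ Subgroup.centralizer ({z} : Set Spor.Co1),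
        (⟨g * z * g⁻¹, hq⟩ : Subgroup.centralizer ({z} : Set Spor.Co1)) ∈ Q) ∧ g * z * g⁻¹ ≠ z := by
  haveI := QC_normal
  exact ⟨zInv, orderOf_zInv, QC, QC_normal, genFitting_eq, extraspecial_QC, card_QC,
    ⟨(QuotientGroup.quotientMulEquivOfEq ker_rhoBar.symm).trans
      (QuotientGroup.quotientKerEquivOfSurjective rhoBar rhoBar_surjective)⟩, exists_conj⟩

end CfsgLib.ConwayInvol
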