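import Cfsg.Agent.Lib.F2Quad.Basic
import Cfsg.Agent.Lib.OrthTransv.Basic
import Cfsg.Agent.Lib.Classical.Quad.Std

/-! Generation and simplicity facts for the eight-dimensional plus type orthogonal group over two elements. -/

set_option autoImplicit false

namespace CfsgLib.ConwayInvol

open Cfsg CfsgLib CfsgLib.Classical.Quad Matrix Subgroup
open scoped commutatorElement

/-- The orthogonal group in question. -/
abbrev G8 : Type := ↥(isometryGroup (ZMod 2) (quadFormPlus 4 (ZMod 2)))

/-- The matrix of an element. -/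
def mat (g : G8) : Matrix (Fin 4 ⊕ Fin 4) (Fin 4 ⊕ Fin 4) (ZMod 2) := (g : GL (Fin 4 ⊕ Fin 4) (ZMod 2))

theorem mat_mul (g h : G8) : mat (g * h) = mat g * mat h := rfl

theorem mat_one : mat (1 : G8) = 1 := rfl

theorem mat_injective : Function.Injective mat := fun _ _ h => Subtype.ext (Units.ext h)

/-- The model. -/
noncomputable abbrev model : G8 ≃* Orth (F2Quad.plusForm 4) :=
  isometryGroupEquiv (F2Quad.plusForm 4) (F2Quad.plusForm_apply 4)

/-- The transvection of a vector. -/
noncomputable def tr (v : F2Quad.Vec 4) : G8 := model.symm (refl (F2Quad.plusForm 4) v)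

theorem model_tr (v : F2Quad.Vec 4) : model (tr v) = refl (F2Quad.plusForm 4) v := model.apply_symm_apply _

theorem tr_sq (v : F2Quad.Vec 4) : tr v * tr v = 1 :=
  model.injective (by rw [map_mul, model_tr, refl_mul_self, map_one])

theorem tr_mulVec {v : F2Quad.Vec 4} (hv : quadFormPlus 4 (ZMod 2) v = 1) (x : F2Quad.Vec 4) :
    mat (tr v) *ᵥ x = x + F2Quad.pol 4 x v • v := by
  have h := isometryGroupEquiv_apply (F2Quad.plusForm 4) (F2Quad.plusForm_apply 4) (tr v) x
  rw [show model (tr v) = refl (F2Quad.plusForm 4) v from model_tr v, OrthTransv.refl_apply_two hv] at h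
  rw [mat, ← h, QuadraticMap.polar, F2Quad.plusForm_apply, F2Quad.plusForm_apply, F2Quad.plusForm_apply,
    F2Quad.pol_eq]

theorem conj_tr (g : G8) (v : F2Quad.Vec 4) : g * tr v * g⁻¹ = tr (mat g *ᵥ v) := by
  refine model.injective ?_
  rw [map_mul, map_mul, map_inv, model_tr, model_tr, refl_conj, isometryGroupEquiv_apply]
  rfl

/-- Index of a coordinate. -/
def idx : Fin 4 ⊕ Fin 4 → ℕ := Sum.elim (fun i => i) (fun i => 4 + i)

/-- Decoding of a vector. -/
def decV (n : ℕ) : F2Quad.Vec 4 := fun j => if n.testBit (idx j) then 1 else 0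

/-- The row codes of the eight generators and the transvection. -/
def rowCodes : List (List ℕ) := [[24, 52, 4, 8, 63, 22, 118, 175], [250, 45, 255, 243, 63, 15, 148, 175], [63, 45, 4, 8, 1, 15, 111, 175], [1, 45, 236, 224, 215, 231, 135, 175], [1, 231, 206, 194, 245, 15, 165, 175], [208, 252, 213, 217, 63, 222, 190, 126], [115, 95, 118, 8, 63, 125, 111, 175], [1, 2, 8, 4, 28, 32, 129, 65], [1, 45, 4, 8, 63, 15, 111, 175]]

/-- Decoding of a generator. -/
def genMat (k : ℕ) : Matrix (Fin 4 ⊕ Fin 4) (Fin 4 ⊕ Fin 4) (ZMod 2) :=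
  Matrix.of fun i j => if ((rowCodes.getD k []).getD (idx i) 0).testBit (idx j) then 1 else 0

/-- The reference vector. -/
def alphaV : F2Quad.Vec 4 := decV 242

theorem alphaV_q : quadFormPlus 4 (ZMod 2) alphaV = 1 := by decide +kernel

theorem mat_tr_alphaV : mat (tr alphaV) = genMat 8 := by
  refine Matrix.ext_of_mulVec_single fun j => ?_
  rw [tr_mulVec alphaV_q]
  revert j
  decide +kernel

theorem gen_conj : ∀ k < 8, genMat 8 * genMat k * genMat 8 = genMat k ∨
    genMat k * (genMat 8 * genMat k * genMat 8) = 1 := by decide +kernel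

/-- The orbit of the reference vector. -/
def nodes : List ℕ := [242, 145, 191, 227, 142, 172, 29, 99, 46, 114, 31, 61, 140, 68, 77, 92, 49, 19, 162, 106, 17, 109, 79, 254, 54, 35, 124, 34, 147, 91, 78, 94, 177, 121, 108, 239, 200, 221, 182, 178, 223, 253, 76, 251, 167, 202, 232, 89, 152, 156, 241, 211, 98, 137, 228, 198, 119, 196, 209, 184, 154, 43, 42, 173, 143, 62, 169, 188, 247, 70, 71, 226, 83, 139, 158, 100, 101, 113, 58, 47, 212, 39, 163, 149, 248, 218, 107, 187, 214, 244, 69, 141, 216, 50, 201, 138, 168, 25, 181, 197, 116, 151, 86, 38, 81, 233, 203, 122, 166, 23, 53, 199, 229, 84, 136, 57, 27, 127, 21, 238]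

/-- The orbit certificate. -/
def steps : List (ℕ × ℕ) := [(0, 0), (0, 1), (0, 2), (0, 3), (0, 4), (0, 5), (1, 0), (1, 1), (1, 2), (1, 3), (1, 4), (1, 5), (1, 6), (2, 1), (2, 2), (2, 3), (2, 4), (2, 5), (2, 6), (3, 2), (3, 3), (3, 4), (3, 5), (3, 6), (3, 7), (4, 3), (4, 4), (4, 5), (4, 6), (4, 7), (5, 4), (5, 5), (5, 6), (5, 7), (6, 5), (6, 6), (6, 7), (7, 6), (9, 7), (10, 7), (11, 7), (12, 7), (13, 1), (13, 2), (13, 3), (13, 4), (13, 5), (13, 7), (15, 7), (16, 7), (17, 7), (18, 7), (19, 2), (19, 3), (19, 4), (19, 5), (20, 6), (20, 7), (24, 3), (24, 4), (24, 5), (24, 7), (25, 3), (25, 4), (25, 5), (26, 6), (26, 7), (29, 4), (29, 5), (29, 7), (30, 4), (30, 5), (31, 6), (31, 7), (33, 5), (33, 7), (34, 5), (35, 6), (35, 7), (36, 7), (38, 0), (39, 2), (39, 6), (40, 6), (41, 6), (42, 6), (44, 7), (45, 7), (46, 7), (47, 7), (49, 2), (57, 7), (58, 2), (62, 2), (63, 6), (64, 6), (65, 6), (66, 7), (71, 6), (72, 6), (73, 7), (77, 6), (78, 7), (82, 1), (83, 3), (83, 4), (83, 5),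 (84, 4), (84, 5), (85, 5), (87, 3), (87, 4), (87, 5), (88, 4), (88, 5), (89, 5), (91, 0), (93, 6), (94, 6)]

theorem steps_check : ∀ j < 119, (steps.getD j (0, 0)).1 ≤ j ∧ (steps.getD j (0, 0)).2 < 9 ∧
    genMat (steps.getD j (0, 0)).2 *ᵥ decV (nodes.getD (steps.getD j (0, 0)).1 0) = decV (nodes.getD (j + 1) 0) := by
  decide +kernel

theorem nodes_cover : ∀ v : F2Quad.Vec 4, quadFormPlus 4 (ZMod 2) v = 1 →
    ∃ n < 120, decV (nodes.getD n 0) = v := by decide +kernel

theorem nodes_zero : decV (nodes.getD 0 0) = alphaV := by decide +kernel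

/-- A set of transvection vectors closed under the generators contains every non-singular vector. -/
theorem orbit_induction {P : F2Quad.Vec 4 → Prop} (h0 : P alphaV)
    (hstep : ∀ k < 9, ∀ v, P v → P (genMat k *ᵥ v)) {v : F2Quad.Vec 4} (hv : quadFormPlus 4 (ZMod 2) v = 1) :
    P v := by
  have key : ∀ n < 120, P (decV (nodes.getD n 0)) := by
    intro n
    induction n using Nat.strong_induction_on with
    | _ n ih =>
      intro hn
      rcases n with _ | j
      · rw [nodes_zero]; exact h0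
      · obtain ⟨h1, h2, h3⟩ := steps_check j (by omega)
        rw [← h3]
        exact hstep _ h2 _ (ih _ (by omega) (by omega))
  obtain ⟨n, hn, rfl⟩ := nodes_cover v hv
  exact key n hn

theorem closure_tr : Subgroup.closure {g : G8 | ∃ v, quadFormPlus 4 (ZMod 2) v = 1 ∧ g = tr v} = ⊤ := by
  have hnd : NDPolar (F2Quad.plusForm 4) := Orth.ndPolar_iff.2 (F2Quad.plusForm_nondegenerate 4)
  have h := Orth.closure_refl_of hnd (Or.inr (Or.inl (by simp)))
  refine map_injective (f := model.toMonoidHom) model.injective ?_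
  rw [MonoidHom.map_closure, map_top_of_surjective _ model.surjective, ← h]
  congr 1
  ext g
  constructor
  · rintro ⟨_, ⟨v, hv, rfl⟩, rfl⟩
    exact ⟨v, by rw [F2Quad.plusForm_apply, hv]; exact one_ne_zero, model_tr v⟩
  · rintro ⟨v, hv, rfl⟩
    exact ⟨tr v, ⟨v, (F2Quad.zmod_two_cases _).resolve_left hv, rfl⟩, model_tr v⟩

variable {H : Subgroup G8}

/-- The eight generators generate a normal subgroup of index at most two. -/
theorem omega_le (hH : ∀ k < 8, ∃ g ∈ H, mat g = genMat k) : Omega (ZMod 2) (quadFormPlus 4 (ZMod 2)) ≤ H := by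
  choose g hgH hgm using hH
  set r := tr alphaV with hr
  have hrr : r * r = 1 := tr_sq _
  let S : Set G8 := {x | ∃ k, ∃ hk : k < 8, x = g k hk}
  set H₀ := Subgroup.closure S with hH₀
  have hH₀le : H₀ ≤ H := (closure_le _).2 (by rintro _ ⟨k, hk, rfl⟩; exact hgH k hk)
  set K := H₀ ⊔ zpowers r with hK
  have hgK : ∀ k < 9, ∃ x ∈ K, mat x = genMat k := fun k hk => by
    rcases (show k < 8 ∨ k = 8 by omega) with hk' | rfl
    · exact ⟨g k hk', mem_sup_left (subset_closure ⟨k, hk', rfl⟩), hgm k hk'⟩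
    · exact ⟨r, mem_sup_right (mem_zpowers r), mat_tr_alphaV⟩
  have hKtop : K = ⊤ := by
    rw [eq_top_iff, ← closure_tr, closure_le]
    rintro _ ⟨v, hv, rfl⟩
    refine orbit_induction (P := fun v => tr v ∈ K) (mem_sup_right (mem_zpowers r)) (fun k hk v hv => ?_) hv
    obtain ⟨x, hx, hxm⟩ := hgK k hk
    rw [← hxm, ← conj_tr]
    exact mul_mem (mul_mem hx hv) (inv_mem hx)
  have hrinv : r⁻¹ = r := inv_eq_of_mul_eq_one_right hrr
  have hN : r ∈ normalizer (H₀ : Set G8) := by
    rw [mem_normalizer_iff_map_conj_eq]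
    have hmap : H₀.map (MulAut.conj r).toMonoidHom ≤ H₀ := by
      rw [map_le_iff_le_comap, hH₀, closure_le]
      rintro _ ⟨k, hk, rfl⟩
      simp only [SetLike.mem_coe, mem_comap, MulEquiv.coe_toMonoidHom, MulAut.conj_apply, hrinv]
      have hm : mat (r * g k hk * r) = genMat 8 * genMat k * genMat 8 := by
        rw [mat_mul, mat_mul, hgm k hk, hr, mat_tr_alphaV]
      rcases gen_conj k hk with e | e
      · rw [show r * g k hk * r = g k hk from mat_injective (by rw [hm, e, hgm k hk])]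
        exact subset_closure ⟨k, hk, rfl⟩
      · have e2 : g k hk * (r * g k hk * r) = 1 := mat_injective (by rw [mat_mul, hm, hgm k hk, e, mat_one])
        rw [eq_inv_of_mul_eq_one_right e2]
        exact inv_mem (subset_closure ⟨k, hk, rfl⟩)
    exact eq_of_le_of_card_ge hmap (by rw [card_map_of_injective (MulAut.conj r).injective])
  have hnorm : H₀.Normal := by
    rw [← normalizer_eq_top_iff, eq_top_iff, ← hKtop]
    exact sup_le le_normalizer (by rw [zpowers_le]; exact hN)
  have hcases : ∀ x : G8, x ∈ H₀ ∨ x * r ∈ H₀ := fun x => by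
    obtain ⟨a, ha, b, hb, rfl⟩ := mem_sup_of_normal_left.1 ((show H₀ ⊔ zpowers r = ⊤ from hKtop) ▸ mem_top x : x ∈ H₀ ⊔ zpowers r)
    obtain ⟨n, rfl⟩ := mem_zpowers_iff.1 hb
    rcases Int.emod_two_eq_zero_or_one n with hn | hn
    · left
      rw [← Int.emod_add_mul_ediv n 2, hn, zero_add, _root_.zpow_mul, zpow_two, hrr, _root_.one_zpow, mul_one]
      exact ha
    · right
      rw [← Int.emod_add_mul_ediv n 2, hn, _root_.zpow_add, _root_.zpow_mul, zpow_two, hrr, _root_.one_zpow, zpow_one, mul_one,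
        mul_assoc, hrr, mul_one]
      exact ha
  refine le_trans ?_ hH₀le
  rw [Omega, _root_.commutator_def, commutator_le]
  intro a _ b _
  rcases hcases a with ha | ha <;> rcases hcases b with hb | hb
  all_goals rw [commutatorElement_def]
  · exact mul_mem (mul_mem (mul_mem ha hb) (inv_mem ha)) (inv_mem hb)
  · rw [mul_assoc a b a⁻¹, mul_assoc a]
    exact mul_mem ha (hnorm.conj_mem _ (inv_mem ha) b)
  · exact mul_mem (hnorm.conj_mem _ hb a) (inv_mem hb)
  · have e : a * b * a⁻¹ * b⁻¹ = (a * r) * (r * (b * r) * r⁻¹) * (r * (a * r)⁻¹ * r⁻¹) * (b * r)⁻¹ := by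
      rw [hrinv]
      simp only [_root_.mul_inv_rev, hrinv, mul_assoc, ← mul_assoc r r, hrr, one_mul]
    rw [e]
    exact mul_mem (mul_mem (mul_mem ha (hnorm.conj_mem _ hb r)) (hnorm.conj_mem _ (inv_mem ha) r)) (inv_mem hb)

/-- A subgroup containing the generators but not the transvection is the commutator subgroup. -/
theorem eq_omega (hH : ∀ k < 8, ∃ g ∈ H, mat g = genMat k) (hr : tr alphaV ∉ H) :
    H = Omega (ZMod 2) (quadFormPlus 4 (ZMod 2)) := by
  set r := tr alphaV with hr'
  set W := Omega (ZMod 2) (quadFormPlus 4 (ZMod 2)) with hW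
  have hgen : W ⊔ zpowers r = ⊤ := by
    rw [eq_top_iff, ← closure_tr, closure_le]
    rintro _ ⟨v, hv, rfl⟩
    refine orbit_induction (P := fun v => tr v ∈ W ⊔ zpowers r) (mem_sup_right (mem_zpowers r))
      (fun k hk v hv => ?_) hv
    obtain ⟨x, hxm⟩ : ∃ x, mat x = genMat k := by
      rcases (show k < 8 ∨ k = 8 by omega) with hk' | rfl
      · obtain ⟨x, -, hx⟩ := hH k hk'; exact ⟨x, hx⟩
      · exact ⟨r, mat_tr_alphaV⟩
    rw [← hxm, ← conj_tr, show x * tr v * x⁻¹ = ⁅x, tr v⁆ * tr v by rw [commutatorElement_def, inv_mul_cancel_right]]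
    exact mul_mem (mem_sup_left (commutator_mem_commutator (mem_top _) (mem_top _))) hv
  refine le_antisymm (fun x hx => ?_) (omega_le hH)
  obtain ⟨a, ha, b, hb, e⟩ := mem_sup_of_normal_left.1 (hgen ▸ mem_top x : x ∈ W ⊔ zpowers r)
  subst e
  have hb' : b ∈ H := by
    have := mul_mem (inv_mem (omega_le hH ha)) hx
    rwa [inv_mul_cancel_left] at this
  obtain ⟨n, rfl⟩ := mem_zpowers_iff.1 hb
  have hrr : r * r = 1 := tr_sq _
  rcases Int.emod_two_eq_zero_or_one n with hn | hn
  · rw [← Int.emod_add_mul_ediv n 2, hn, zero_add, _root_.zpow_mul, zpow_two, hrr, _root_.one_zpow, mul_one]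
    exact ha
  · rw [← Int.emod_add_mul_ediv n 2, hn, _root_.zpow_add, _root_.zpow_mul, zpow_two, hrr, _root_.one_zpow, zpow_one, mul_one] at hb'
    exact absurd hb' hr

/-- The commutator subgroup is simple and not abelian. -/
theorem omega_simple : IsSimpleGroup ↥(Omega (ZMod 2) (quadFormPlus 4 (ZMod 2))) ∧
    Subgroup.center ↥(Omega (ZMod 2) (quadFormPlus 4 (ZMod 2))) = ⊥ := by
  have hnd := ndPolar_hypForm (ndPolar_zeroKernel (F := ZMod 2)) 4
  let P := hypFrameThree (zeroKernel (ZMod 2)) (show 3 ≤ 4 by norm_num)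
  have hcz := card_center_eq_one hnd P fun _ => negOne_eq_one (show (2 : ZMod 2) = 0 from rfl)
  let e := (commutatorEquiv (isometryEquivModel (plusEquiv 4 (ZMod 2)) (plusEquiv_spec 4))).trans
    (MulEquiv.subgroupCongr (commutator_orth_eq hnd P))
  have hz : Subgroup.center ↥(Omega (ZMod 2) (quadFormPlus 4 (ZMod 2))) = ⊥ := by
    rw [← card_eq_one, ← card_map_of_injective (f := e.toMonoidHom) e.injective]
    exact (congrArg (fun K : Subgroup _ => Nat.card K) (map_center_mulEquiv e)).trans hcz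
  refine ⟨?_, hz⟩
  have h := isSimpleGroup_pomega (plusEquiv 4 (ZMod 2)) (plusEquiv_spec 4) hnd P
  exact (MulEquiv.isSimpleGroup_congr ((QuotientGroup.quotientMulEquivOfEq hz).trans QuotientGroup.quotientBot)).1 h

end CfsgLib.ConwayInvol
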