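import Cfsg.Agent.Lib.ConwayInvol.Lattice8
import Cfsg.Agent.Lib.ConwayInvol.Orth8
import Cfsg.Agent.Lib.Leech.Order
import Cfsg.Agent.Lib.Leech.Simple.Mono
import Cfsg.Agent.Lib.M24Stab.Octad

/-! The centralizer of an octad sign change acting on the lattice of the octad modulo two. -/

set_option autoImplicit false

namespace CfsgLib.ConwayInvol

open Cfsg CfsgLib CfsgLib.Leech

/-- The word of the octad. -/
def octWord : GolayPt → ZMod 2 := Golay.toWord octMask

theorem octWord_mem : octWord ∈ golayCode :=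
  (Golay.toWord_mem_iff (by decide)).2 (by decide +kernel)

theorem octWord_apply (p : GolayPt) : octWord p = if p ∈ oct then 1 else 0 := by
  simp [octWord, Golay.toWord, oct, Golay.mem_toSet]

/-- The sign change on the octad. -/
def tInv : Co0 := monoEl 1 (one_mem _) octWord octWord_mem

theorem coe_tInv_smul (v : leechLattice) :
    ((tInv • v : leechLattice) : GolayPt → ℤ) =
      fun p => if p ∈ oct then -(v : GolayPt → ℤ) p else (v : GolayPt → ℤ) p := by
  funext p
  rw [tInv, coe_monoEl_smul]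
  by_cases h : p ∈ oct <;> simp [monoFun, octWord_apply, h]

/-- The centralizer of the sign change. -/
abbrev Cent : Subgroup Co0 := Subgroup.centralizer ({tInv} : Set Co0)

theorem comm_tInv (g : Cent) : tInv * g.1 = g.1 * tInv :=
  (Subgroup.mem_centralizer_singleton_iff.1 g.2).symm

/-- A vector supported on the octad stays there. -/
theorem supported_smul (g : Cent) {v : leechLattice} (hv : ∀ p, p ∉ oct → (v : GolayPt → ℤ) p = 0) :
    ∀ p, p ∉ oct → ((g.1 • v : leechLattice) : GolayPt → ℤ) p = 0 := by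
  have h : tInv • v = -v := by
    refine Subtype.ext (funext fun p => ?_)
    rw [coe_tInv_smul]
    by_cases hp : p ∈ oct <;> simp [hp, hv p]
  intro p hp
  have h2 : tInv • (g.1 • v) = -(g.1 • v) := by rw [← mul_smul, comm_tInv, mul_smul, h, smul_neg']
  have h3 := congrArg (fun w : leechLattice => (w : GolayPt → ℤ) p) h2
  simp only [coe_tInv_smul, if_neg hp, NegMemClass.coe_neg, Pi.neg_apply] at h3
  omega

/-- A vector vanishing on the octad keeps this property. -/
theorem vanishing_smul (g : Cent) {v : leechLattice} (hv : ∀ p ∈ oct, (v : GolayPt → ℤ) p = 0) :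
    ∀ p ∈ oct, ((g.1 • v : leechLattice) : GolayPt → ℤ) p = 0 := by
  have h : tInv • v = v := by
    refine Subtype.ext (funext fun p => ?_)
    rw [coe_tInv_smul]
    by_cases hp : p ∈ oct <;> simp [hp, hv p]
  intro p hp
  have h2 : tInv • (g.1 • v) = g.1 • v := by rw [← mul_smul, comm_tInv, mul_smul, h]
  have h3 := congrArg (fun w : leechLattice => (w : GolayPt → ℤ) p) h2
  simp only [coe_tInv_smul, if_pos hp] at h3
  omega

/-- A vector of the octad in the big lattice. -/
def liftL (y : L8) : leechLattice := ⟨emb y.1, emb_mem.2 y.2⟩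

theorem liftL_supported (y : L8) : ∀ p, p ∉ oct → (liftL y : GolayPt → ℤ) p = 0 := fun _ h => emb_off _ h

theorem liftL_add (u v : L8) : liftL (u + v) = liftL u + liftL v := Subtype.ext (emb_add _ _)

theorem res_mem {v : leechLattice} (hv : ∀ p, p ∉ oct → (v : GolayPt → ℤ) p = 0) : res v ∈ L8 :=
  emb_mem.1 (by rw [emb_res hv]; exact v.2)

/-- The action on the vectors of the octad. -/
def actL (g : Cent) (y : L8) : L8 :=
  ⟨res (g.1 • liftL y : leechLattice), res_mem (supported_smul g (liftL_supported y))⟩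

theorem liftL_actL (g : Cent) (y : L8) : liftL (actL g y) = g.1 • liftL y :=
  Subtype.ext (emb_res (supported_smul g (liftL_supported y)))

theorem liftL_injective : Function.Injective liftL := fun u v h =>
  Subtype.ext (by rw [← res_emb u.1, ← res_emb v.1]; exact congrArg res (congrArg Subtype.val h))

theorem actL_mul (g h : Cent) (y : L8) : actL (g * h) y = actL g (actL h y) :=
  liftL_injective (by rw [liftL_actL, liftL_actL, liftL_actL, Subgroup.coe_mul, mul_smul])

theorem actL_one (y : L8) : actL 1 y = y :=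
  liftL_injective (by rw [liftL_actL, Subgroup.coe_one, one_smul])

/-- The action as an additive map. -/
def actHom (g : Cent) : L8 →+ L8 :=
  AddMonoidHom.mk' (actL g) fun u v => liftL_injective (by
    rw [liftL_actL, liftL_add, liftL_add, liftL_actL, liftL_actL, smul_add'])

theorem dot_liftL (u v : L8) : dotInt (liftL u : GolayPt → ℤ) (liftL v : GolayPt → ℤ) = dot8 u.1 v.1 := by
  rw [dotInt, ← Finset.sum_subset (Finset.subset_univ (Finset.univ.image pts)),
    Finset.sum_image (fun a _ b _ e => pts_inj e)]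
  · simp [dot8, liftL, emb_pts]
  · intro p _ hp
    show emb u.1 p * emb v.1 p = 0
    rw [emb_off u.1 (fun h => hp ?_), zero_mul]
    obtain ⟨k, rfl⟩ := (mem_oct_iff p).1 h
    exact Finset.mem_image_of_mem _ (Finset.mem_univ k)

theorem dot8_actL (g : Cent) (u v : L8) : dot8 (actL g u).1 (actL g v).1 = dot8 u.1 v.1 := by
  rw [← dot_liftL, ← dot_liftL, liftL_actL, liftL_actL, dotInt_smul]

/-- The lifts of the unit vectors. -/
def liftE (j : Fin 4 ⊕ Fin 4) : L8 := ⟨lift j, lift_mem j⟩

theorem phi_eq_zero_actL (g : Cent) {y : L8} (h : phi y.1 = 0) : phi (actL g y).1 = 0 := by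
  have hpol : ∀ w : L8, F2Quad.pol 4 (phi (actL g y).1) (phi w.1) = 0 := fun w => by
    have e : w = actL g (actL g⁻¹ w) := by rw [← actL_mul, mul_inv_cancel, actL_one]
    rw [← ip_eq_pol (actL g y).2 w.2, e, ip, dot8_actL, ← ip, ip_eq_pol y.2 (actL g⁻¹ w).2, h]
    simp [F2Quad.pol]
  funext j
  rcases j with i | i
  · have := hpol (liftE (.inr i))
    simpa [liftE, phi_lift, F2Quad.pol, Pi.single_apply] using this
  · have := hpol (liftE (.inl i))
    simpa [liftE, phi_lift, F2Quad.pol, Pi.single_apply] using this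

/-- The matrix of the action. -/
def rhoMat (g : Cent) : Matrix (Fin 4 ⊕ Fin 4) (Fin 4 ⊕ Fin 4) (ZMod 2) :=
  Matrix.of fun i j => phi (actL g (liftE j)).1 i

/-- The integral combination of the lifts. -/
def combL (u : V) : L8 := ∑ j, (u j).val • liftE j

theorem phi_combL (u : V) : phi (combL u).1 = u := by
  show phiHom (combL u) = u
  rw [combL, map_sum]
  funext i
  simp only [map_nsmul, Finset.sum_apply, Pi.smul_apply]
  have : ∀ j, phiHom (liftE j) i = (Pi.single j 1 : V) i := fun j => congrFun (phi_lift j) i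
  simp only [this, Pi.single_apply, nsmul_eq_mul, ZMod.natCast_val, ZMod.cast_id, id_eq, mul_ite, mul_one, mul_zero,
    Finset.sum_ite_eq, Finset.mem_univ, if_true]

theorem phi_actL (g : Cent) (y : L8) : phi (actL g y).1 = (rhoMat g).mulVec (phi y.1) := by
  have h0 : phiHom (y - combL (phi y.1)) = 0 := by
    rw [map_sub]
    show phi y.1 - phi (combL (phi y.1)).1 = 0
    rw [phi_combL, sub_self]
  have h1 : phiHom (actHom g (y - combL (phi y.1))) = 0 := phi_eq_zero_actL g h0
  rw [map_sub, map_sub, sub_eq_zero] at h1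
  show phiHom (actHom g y) = _
  rw [h1, combL, map_sum, map_sum]
  funext i
  simp only [map_nsmul, Finset.sum_apply, Pi.smul_apply, Matrix.mulVec, dotProduct, rhoMat, Matrix.of_apply,
    nsmul_eq_mul, ZMod.natCast_val, ZMod.cast_id, id_eq]
  exact Finset.sum_congr rfl fun j _ => by rcases F2Quad.zmod_two_cases (phi y.1 j) with e | e <;> simp [e] <;> rfl

theorem rhoMat_ext {M : Matrix (Fin 4 ⊕ Fin 4) (Fin 4 ⊕ Fin 4) (ZMod 2)} {g : Cent}
    (h : ∀ j, phi (actL g (liftE j)).1 = fun i => M i j) : rhoMat g = M := by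
  ext i j
  exact congrFun (h j) i

theorem rhoMat_mul (g h : Cent) : rhoMat (g * h) = rhoMat g * rhoMat h := by
  refine rhoMat_ext fun j => ?_
  rw [actL_mul, phi_actL]
  rfl

theorem rhoMat_one : rhoMat 1 = 1 := by
  refine rhoMat_ext fun j => ?_
  rw [actL_one]
  funext i
  simp [liftE, phi_lift, Matrix.one_apply, Pi.single_apply]

theorem rhoMat_isometry (g : Cent) (u : V) :
    quadFormPlus 4 (ZMod 2) ((rhoMat g).mulVec u) = quadFormPlus 4 (ZMod 2) u := by
  have e : u = phi (combL u).1 := (phi_combL u).symm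
  rw [e, ← phi_actL, ← qv_eq (actL g _).2, ← qv_eq (combL u).2, qv, qv, dot8_actL]

/-- The representation. -/
def rho : Cent →* G8 :=
  (({ toFun := rhoMat, map_one' := rhoMat_one, map_mul' := rhoMat_mul } :
    Cent →* Matrix (Fin 4 ⊕ Fin 4) (Fin 4 ⊕ Fin 4) (ZMod 2)).toHomUnits).codRestrict _
    fun g u _ => rhoMat_isometry g u

theorem mat_rho (g : Cent) : mat (rho g) = rhoMat g := rfl

theorem phi_rho (g : Cent) (y : L8) : phi (actL g y).1 = (mat (rho g)).mulVec (phi y.1) := phi_actL g y

/-! ### Recognising monomial elements -/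

/-- Congruence modulo twice the lattice. -/
def Cong (v w : leechLattice) : Prop := ∃ z : leechLattice, v - w = 2 • z

theorem Cong.trans {u v w : leechLattice} (h : Cong u v) (h' : Cong v w) : Cong u w := by
  obtain ⟨a, ha⟩ := h
  obtain ⟨b, hb⟩ := h'
  exact ⟨a + b, by rw [smul_add, ← ha, ← hb, sub_add_sub_cancel]⟩

theorem Cong.symm {u v : leechLattice} (h : Cong u v) : Cong v u := by
  obtain ⟨a, ha⟩ := h
  exact ⟨-a, by rw [smul_neg, ← ha, neg_sub]⟩

theorem Cong.smul {u v : leechLattice} (h : Cong u v) (g : Co0) : Cong (g • u) (g • v) := by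
  obtain ⟨a, ha⟩ := h
  exact ⟨g • a, by
    have := congrArg (toAddHom g) ha
    rwa [map_sub, map_nsmul] at this⟩

theorem cong_neg (u : leechLattice) : Cong (-u) u := ⟨-u, by rw [two_nsmul]; abel⟩

theorem cong_eightVec (i j : GolayPt) : Cong (eightVec i) (eightVec j) :=
  (eightVec_sub_eq_two_nsmul i).imp (fun _ h => h) |> fun h => Cong.trans h (Cong.symm (eightVec_sub_eq_two_nsmul j))

theorem stdStab_of_cong {g : Co0} {i j : GolayPt} (h : Cong (g • eightVec i) (eightVec j)) : StdStab g := by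
  rw [stdStab_iff]
  intro m
  have hm : Cong (g • eightVec m) (eightVec j) := ((cong_eightVec m i).smul g).trans h
  have hyn : sqNorm ((g • eightVec m : leechLattice) : GolayPt → ℤ) = 64 := by
    rw [sqNorm_smul]; exact sqNorm_eightVec m
  by_contra hns
  have hzero : ∀ l, ((g • eightVec m : leechLattice) : GolayPt → ℤ) l = 0 := by
    intro l
    obtain ⟨w, hw⟩ := hm.trans (cong_eightVec j l)
    have hd : ((g • eightVec m : leechLattice) : GolayPt → ℤ) - (eightVec l : GolayPt → ℤ) =
        2 • (w : GolayPt → ℤ) := by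
      rw [← AddSubgroupClass.coe_sub, hw]; rfl
    rcases cong_short (eightVec l).2 w.2 hd hyn (sqNorm_eightVec l) with h | h | h
    · exact absurd (mem_stdCross_iff.2 ⟨l, Or.inl (Subtype.ext h)⟩) hns
    · exact absurd (mem_stdCross_iff.2 ⟨l, Or.inr (Subtype.ext h)⟩) hns
    · rw [coe_eightVec, dotInt_single] at h
      omega
  simp [sqNorm, hzero] at hyn

theorem eight_single_mem (k : Fin 8) : (Pi.single k 8 : Vec8) ∈ L8 := by revert k; decide +kernel

/-- The vector eight times a unit vector. -/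
def eightL (k : Fin 8) : L8 := ⟨Pi.single k 8, eight_single_mem k⟩

theorem liftL_eightL (k : Fin 8) : liftL (eightL k) = eightVec (pts k) := by
  refine Subtype.ext ?_
  show emb (Pi.single k 8) = Pi.single (pts k) 8
  rw [emb, Finset.sum_eq_single k (fun j _ hj => by rw [Pi.single_eq_of_ne hj, Pi.single_zero]) (by simp),
    Pi.single_eq_same]

theorem cong_of_phi {u v : L8} (h : phi u.1 = phi v.1) : ∃ z : L8, u - v = 2 • z := by
  have h0 : phiHom (u - v) = 0 := by
    rw [map_sub]
    exact sub_eq_zero.2 h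
  obtain ⟨z, hz, e⟩ := of_phi_eq_zero (u - v).2 h0
  exact ⟨⟨z, hz⟩, Subtype.ext e⟩

theorem stdStab_of_phi (g : Cent) {k : Fin 8} (h : phi (actL g (eightL 0)).1 = phi (eightL k).1) :
    StdStab g.1 := by
  obtain ⟨z, hz⟩ := cong_of_phi h
  refine stdStab_of_cong (i := pts 0) (j := pts k) ⟨liftL z, ?_⟩
  rw [← liftL_eightL, ← liftL_eightL, ← liftL_actL, two_nsmul, ← liftL_add, ← two_nsmul, ← hz]
  refine eq_sub_of_add_eq ?_ |>.symm
  rw [← liftL_add, sub_add_cancel]

/-- A signed permutation of eight coordinates. -/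
def loc (s : Fin 8 → Fin 8) (e : Fin 8 → ZMod 2) (y : Vec8) : Vec8 :=
  fun k => if e k = 1 then -y (s k) else y (s k)

theorem setStab_pts {τ : Equiv.Perm GolayPt} (hτ : τ ∈ M24Stab.setStab oct) (k : Fin 8) :
    ∃ l, τ (pts k) = pts l := by
  obtain ⟨l, hl⟩ := (mem_oct_iff _).1 ((M24Stab.preserves hτ _).2 (pts_mem k))
  exact ⟨l, hl.symm⟩

theorem setStab_of_pts {τ : Equiv.Perm GolayPt} (hτ : τ ∈ M24) (h : ∀ p ∈ oct, τ p ∈ oct) :
    τ ∈ M24Stab.setStab oct := by
  refine M24Stab.mem_setStab.2 ⟨hτ, Finset.eq_of_subset_of_card_le (fun x hx => ?_) (by rw [Finset.card_smul_finset])⟩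
  obtain ⟨y, hy, rfl⟩ := Finset.mem_smul_finset.1 hx
  exact h y hy

theorem mono_mem_cent {τ : Equiv.Perm GolayPt} (hτ : τ ∈ M24Stab.setStab oct) {c : GolayPt → ZMod 2}
    (hc : c ∈ golayCode) : monoEl τ (M24Stab.mem_setStab.1 hτ).1 c hc ∈ Cent := by
  rw [Subgroup.mem_centralizer_singleton_iff, tInv, monoEl_mul, monoEl_mul]
  refine monoEl_congr (by rw [one_mul, mul_one]) ?_
  funext p
  simp only [Pi.add_apply, Function.comp_apply, Equiv.Perm.one_apply, octWord_apply, M24Stab.preserves hτ p]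
  exact add_comm _ _

theorem actL_mono {τ : Equiv.Perm GolayPt} {hτ : τ ∈ M24} {c : GolayPt → ZMod 2} {hc : c ∈ golayCode}
    {g : Cent} (hg : g.1 = monoEl τ hτ c hc) {s : Fin 8 → Fin 8} (hs : ∀ k, τ (pts k) = pts (s k)) (y : L8) :
    (actL g y).1 = loc s (c ∘ pts) y.1 := by
  funext k
  show ((g.1 • liftL y : leechLattice) : GolayPt → ℤ) (pts k) = _
  rw [hg, coe_monoEl_smul]
  show (if c (pts k) = 1 then -emb y.1 (τ (pts k)) else emb y.1 (τ (pts k))) = _
  rw [hs, emb_pts]
  rfl

theorem exists_mono_of_stdStab' (g : Cent) (h : StdStab g.1) :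
    ∃ (τ : Equiv.Perm GolayPt) (hτ : τ ∈ M24Stab.setStab oct) (c : GolayPt → ZMod 2) (hc : c ∈ golayCode)
      (s : Fin 8 → Fin 8), g.1 = monoEl τ (M24Stab.mem_setStab.1 hτ).1 c hc ∧ ∀ k, τ (pts k) = pts (s k) := by
  obtain ⟨τ, hτ, c, hc, hg⟩ := exists_mono_of_stdStab h
  have hinv : ∀ p ∈ oct, τ⁻¹ p ∈ oct := fun p hp => by
    by_contra hn
    have h0 := supported_smul g (v := eightVec p) (fun q hq => by
      rw [coe_eightVec, Pi.single_eq_of_ne (fun e => hq (by rw [e]; exact hp))]) _ hn
    rw [hg, coe_monoEl_smul, coe_eightVec, monoFun_single, Pi.single_eq_same] at h0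
    revert h0
    split <;> omega
  have hτ' : τ ∈ M24Stab.setStab oct := inv_inv τ ▸ inv_mem (setStab_of_pts (inv_mem hτ) hinv)
  choose s hs using setStab_pts hτ'
  exact ⟨τ, hτ', c, hc, s, hg, hs⟩

theorem pair_mem : ∀ k l : Fin 8, k ≠ l → (Pi.single k 4 + Pi.single l 4 : Vec8) ∈ L8 := by decide +kernel

theorem pair_apply {k l : Fin 8} (hkl : k ≠ l) (x : Fin 8) :
    (Pi.single k 4 + Pi.single l 4 : Vec8) x = if x = k ∨ x = l then 4 else 0 := by
  by_cases a : x = k
  · subst a; simp [hkl]
  · by_cases b : x = l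
    · subst b; simp [a]
    · simp [a, b]

theorem loc_rigid {s s' : Fin 8 → Fin 8} (hs : Function.Injective s) (hs' : Function.Injective s') {e : Fin 8 → ZMod 2}
    (h : ∀ y : L8, phi (loc s e y.1) = phi (loc s' 0 y.1))
    (hm : ∀ y : L8, loc s e y.1 ∈ L8 ∧ loc s' 0 y.1 ∈ L8) : s = s' ∧ ∀ k, e k = e 0 := by
  have hd : ∀ y : L8, ∃ z ∈ L8, loc s e y.1 - loc s' 0 y.1 = 2 • z := fun y => by
    obtain ⟨z, hz⟩ := cong_of_phi (u := ⟨_, (hm y).1⟩) (v := ⟨_, (hm y).2⟩) (h y)
    exact ⟨z.1, z.2, congrArg Subtype.val hz⟩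
  have key : ∀ k l, k ≠ l → ∀ m, (s m = k ∨ s m = l) ↔ (s' m = k ∨ s' m = l) := by
    intro k l hkl m
    obtain ⟨z, hz, he⟩ := hd ⟨_, pair_mem k l hkl⟩
    obtain ⟨-, h4, -⟩ := mem_L8.1 hz
    have hval : ∀ m, 2 * z m =
        (if e m = 1 then -(if s m = k ∨ s m = l then (4 : ℤ) else 0) else if s m = k ∨ s m = l then 4 else 0) -
          if s' m = k ∨ s' m = l then 4 else 0 := fun m => by
      have := congrFun he m
      simp only [loc, Pi.sub_apply, Pi.smul_apply, nsmul_eq_mul, pair_apply hkl, Pi.zero_apply,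
        zero_ne_one, if_false, Nat.cast_ofNat] at this
      exact this.symm
    by_contra hne
    have hcard : ∀ (f : Fin 8 → Fin 8), Function.Injective f →
        (Finset.univ.filter fun m => f m = k ∨ f m = l).card ≤ 2 := fun f hf => by
      rw [← Finset.card_image_of_injective _ hf]
      refine (Finset.card_le_card (t := {k, l}) fun x hx => ?_).trans Finset.card_le_two
      obtain ⟨a, ha, rfl⟩ := Finset.mem_image.1 hx
      simpa using (Finset.mem_filter.1 ha).2
    -- some coordinate is untouched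
    obtain ⟨m₀, hm₀, hm₀'⟩ : ∃ m₀, ¬ (s m₀ = k ∨ s m₀ = l) ∧ ¬ (s' m₀ = k ∨ s' m₀ = l) := by
      by_contra! hcon
      have h2 : (Finset.univ.filter fun m => ¬ (s m = k ∨ s m = l)).card ≤
          (Finset.univ.filter fun m => s' m = k ∨ s' m = l).card :=
        Finset.card_le_card fun x hx => by
          simp only [Finset.mem_filter, Finset.mem_univ, true_and] at hx ⊢
          exact hcon x (not_or.1 hx)
      have := Finset.card_filter_add_card_filter_not (s := (Finset.univ : Finset (Fin 8)))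
        (fun m => s m = k ∨ s m = l)
      have := hcard s hs
      have := hcard s' hs'
      simp only [Finset.card_univ, Fintype.card_fin] at *
      omega
    have h0 := hval m₀
    rw [if_neg hm₀, if_neg hm₀'] at h0
    have hz0 : z m₀ = 0 := by revert h0; split <;> omega
    have hval' := hval m
    have := h4 m
    have := h4 m₀
    by_cases a : s m = k ∨ s m = l <;> by_cases b : s' m = k ∨ s' m = l
    · exact hne ⟨fun _ => b, fun _ => a⟩
    · rw [if_pos a, if_neg b] at hval'; revert hval'; split <;> omega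
    · rw [if_neg a, if_pos b] at hval'; revert hval'; split <;> omega
    · exact hne ⟨fun x => absurd x a, fun x => absurd x b⟩
  have hsame : s = s' := by
    funext m
    obtain ⟨l, l', h1, h2, h3⟩ : ∃ l l' : Fin 8, l ≠ s m ∧ l' ≠ s m ∧ l ≠ l' :=
      ⟨s m + 1, s m + 2, by revert m; intro m; generalize s m = a; revert a; decide,
        by generalize s m = a; revert a; decide, by generalize s m = a; revert a; decide⟩
    have a := (key (s m) l h1.symm m).1 (Or.inl rfl)
    have b := (key (s m) l' h2.symm m).1 (Or.inl rfl)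
    rcases a with a | a
    · exact a.symm
    rcases b with b | b
    · exact b.symm
    exact absurd (a.symm.trans b) h3
  refine ⟨hsame, fun k => ?_⟩
  by_contra hk
  obtain ⟨k0, rfl⟩ : ∃ k0, k0 = k := ⟨k, rfl⟩
  have hne : s k0 ≠ s 0 := fun e' => hk (by rw [hs e'])
  obtain ⟨z, hz, he⟩ := hd ⟨_, pair_mem _ _ hne⟩
  obtain ⟨-, -, hsum⟩ := mem_L8.1 hz
  have hval : ∀ m, z m = if m = k0 then (if e m = 1 then -4 else 0) else if m = 0 then (if e m = 1 then -4 else 0) else 0 :=
    fun m => by
      have := congrFun he m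
      simp only [← hsame, loc, Pi.sub_apply, Pi.smul_apply, nsmul_eq_mul, pair_apply hne,
        Pi.zero_apply, zero_ne_one, if_false, Nat.cast_ofNat, hs.eq_iff] at this
      have hk0 : k0 ≠ 0 := fun e' => hk (by rw [e'])
      by_cases a : m = k0 <;> by_cases b : m = 0 <;> by_cases c : e m = 1 <;>
        simp [a, b, c, hk0, hk0.symm] at this ⊢ <;> first | omega | (split_ifs at this ⊢ <;> omega)
  have hk0 : k0 ≠ 0 := fun e' => hk (by rw [e'])
  have e2 : ∑ m, z m = z k0 + z 0 := by
    rw [← Finset.sum_pair hk0]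
    refine (Finset.sum_subset (Finset.subset_univ _) fun m _ hm' => ?_).symm
    simp only [Finset.mem_insert, Finset.mem_singleton, not_or] at hm'
    rw [hval m, if_neg hm'.1, if_neg hm'.2]
  rw [e2, hval, hval, if_pos rfl, if_neg (Ne.symm hk0), if_pos rfl] at hsum
  rcases F2Quad.zmod_two_cases (e k0) with a | a <;> rcases F2Quad.zmod_two_cases (e 0) with b | b <;>
    simp [a, b] at hsum hk

end CfsgLib.ConwayInvol
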