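import Cfsg.Agent.Lib.ConwayInvol.Action

/-! The image and kernel of the action on the octad lattice modulo two. -/

set_option autoImplicit false

namespace CfsgLib.ConwayInvol

open Cfsg CfsgLib CfsgLib.Leech

/-- The underlying permutations of the monomial generators: six three-cycles and the identity. -/
def genPerm : Fin 7 → Fin 8 → Fin 8 :=
  ![![1, 2, 0, 3, 4, 5, 6, 7], ![1, 3, 2, 0, 4, 5, 6, 7], ![1, 4, 2, 3, 0, 5, 6, 7],
    ![1, 5, 2, 3, 4, 0, 6, 7], ![1, 6, 2, 3, 4, 5, 0, 7], ![1, 7, 2, 3, 4, 5, 6, 0], id]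

/-- The signs of the monomial generators. -/
def genSign : Fin 7 → Fin 8 → ZMod 2 := ![0, 0, 0, 0, 0, 0, ![1, 1, 0, 0, 0, 0, 0, 0]]

theorem genMat_mono : ∀ k : Fin 7, ∀ j i, phi (loc (genPerm k) (genSign k) (lift j)) i = genMat k i j := by
  decide +kernel

theorem genMat_xi : ∀ j i, phi (res (xiFun (emb (lift j)))) i = genMat 7 i j := by decide +kernel

/-- The sign pattern of the seventh generator as a word of the code. -/
def pairWord : GolayPt → ZMod 2 := Golay.toWord (Golay.comb 9)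

theorem pairWord_pts : ∀ k : Fin 8, pairWord (pts k) = genSign 6 k := by decide +kernel

/-- The eight points as a subtype. -/
noncomputable def ptsEquiv : Fin 8 ≃ ↥oct :=
  Equiv.ofBijective (fun k => ⟨pts k, pts_mem k⟩)
    ⟨fun a b h => pts_inj (congrArg Subtype.val h), fun x => by
      obtain ⟨k, hk⟩ := (mem_oct_iff _).1 x.2
      exact ⟨k, Subtype.ext hk⟩⟩

theorem even_genPerm : ∀ k : Fin 7, ∃ σ : Equiv.Perm (Fin 8), σ.sign = 1 ∧ ∀ m, σ m = genPerm k m := by
  intro k
  refine ⟨![Equiv.swap 0 2 * Equiv.swap 0 1, Equiv.swap 0 3 * Equiv.swap 0 1, Equiv.swap 0 4 * Equiv.swap 0 1,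
    Equiv.swap 0 5 * Equiv.swap 0 1, Equiv.swap 0 6 * Equiv.swap 0 1, Equiv.swap 0 7 * Equiv.swap 0 1, 1] k, ?_, ?_⟩
  · fin_cases k <;> simp
  · revert k
    decide +kernel

theorem exists_tau (k : Fin 7) : ∃ τ ∈ M24Stab.setStab oct, ∀ m, τ (pts m) = pts (genPerm k m) := by
  obtain ⟨σ, hσ, hval⟩ := even_genPerm k
  have hmem : ptsEquiv.permCongr σ ∈ (alternatingGroup ↥oct : Set (Equiv.Perm ↥oct)) := by
    rw [SetLike.mem_coe, Equiv.Perm.mem_alternatingGroup, Equiv.Perm.sign_permCongr, hσ]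
  rw [← M24Stab.induced_eq oct_mem] at hmem
  obtain ⟨g, hg, hpres, he⟩ := hmem
  refine ⟨g, setStab_of_pts hg fun p hp => (hpres p).2 hp, fun m => ?_⟩
  have h := congrArg (fun e : Equiv.Perm ↥oct => (e (ptsEquiv m)).1) he
  simp only [Equiv.Perm.subtypePerm_apply, Equiv.permCongr_apply, Equiv.symm_apply_apply] at h
  exact h.trans (by rw [hval]; rfl)

theorem xi_tetrads : ∀ p q : GolayPt, sextetLab q = sextetLab p → (q ∈ oct ↔ p ∈ oct) := by decide +kernel

theorem xi_mem_cent : xiEl ∈ Cent := by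
  rw [Subgroup.mem_centralizer_singleton_iff]
  refine Subtype.ext (Equiv.ext fun v => ?_)
  show xiEl • (tInv • v) = tInv • (xiEl • v)
  refine Subtype.ext (funext fun p => ?_)
  have hev := tetradSum_even v.2 p
  rw [coe_xiEl_smul, coe_tInv_smul, coe_tInv_smul, coe_xiEl_smul]
  have hs : tetradSum (fun q => if q ∈ oct then -(v : GolayPt → ℤ) q else (v : GolayPt → ℤ) q) p =
      if p ∈ oct then -tetradSum (v : GolayPt → ℤ) p else tetradSum (v : GolayPt → ℤ) p := by
    unfold tetradSum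
    by_cases hp : p ∈ oct
    · rw [if_pos hp, ← Finset.sum_neg_distrib]
      refine Finset.sum_congr rfl fun q hq => ?_
      exact if_pos ((xi_tetrads p q (Finset.mem_filter.1 hq).2).2 hp)
    · rw [if_neg hp]
      refine Finset.sum_congr rfl fun q hq => ?_
      exact if_neg (fun h => hp ((xi_tetrads p q (Finset.mem_filter.1 hq).2).1 h))
  simp only [xiFun, hs]
  split_ifs <;> omega

theorem gen_in_range : ∀ k < 8, ∃ g ∈ rho.range, mat g = genMat k := by
  intro k hk
  rcases (show k < 6 ∨ k = 6 ∨ k = 7 by omega) with hk' | rfl | rfl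
  · obtain ⟨τ, hτ, hs⟩ := exists_tau ⟨k, by omega⟩
    refine ⟨rho ⟨_, mono_mem_cent hτ (zero_mem _)⟩, ⟨_, rfl⟩, ?_⟩
    rw [mat_rho]
    refine rhoMat_ext fun j => funext fun i => ?_
    rw [actL_mono (g := ⟨_, mono_mem_cent hτ (zero_mem _)⟩) (hτ := (M24Stab.mem_setStab.1 hτ).1)
      (hc := zero_mem _) rfl hs]
    have e : ((0 : GolayPt → ZMod 2) ∘ pts) = genSign ⟨k, by omega⟩ := by
      interval_cases k <;> rfl
    rw [e]
    exact genMat_mono ⟨k, by omega⟩ j i
  · obtain ⟨τ, hτ, hs⟩ : ∃ τ, τ ∈ M24Stab.setStab oct ∧ ∀ m, τ (pts m) = pts (genPerm 6 m) :=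
      ⟨1, one_mem _, fun m => rfl⟩
    refine ⟨rho ⟨_, mono_mem_cent hτ (Golay.toWord_comb_mem 9)⟩, ⟨_, rfl⟩, ?_⟩
    rw [mat_rho]
    refine rhoMat_ext fun j => funext fun i => ?_
    rw [actL_mono (g := ⟨_, mono_mem_cent hτ (Golay.toWord_comb_mem 9)⟩) (hτ := (M24Stab.mem_setStab.1 hτ).1)
      (hc := Golay.toWord_comb_mem 9) rfl hs]
    have e : (Golay.toWord (Golay.comb 9) ∘ pts) = genSign 6 := funext pairWord_pts
    rw [e]
    exact genMat_mono 6 j i
  · refine ⟨rho ⟨xiEl, xi_mem_cent⟩, ⟨_, rfl⟩, ?_⟩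
    rw [mat_rho]
    exact rhoMat_ext fun j => funext fun i => genMat_xi j i

/-- The exchange of the first two points. -/
def swapFun : Fin 8 → Fin 8 := ![1, 0, 2, 3, 4, 5, 6, 7]

theorem swap_gen : ∀ i, loc swapFun 0 (gen8 i) ∈ L8 ∧
    phi (loc swapFun 0 (gen8 i)) = (genMat 8).mulVec (phi (gen8 i)) ∧
    phi (loc swapFun 0 (-gen8 i)) = (genMat 8).mulVec (phi (-gen8 i)) := by decide +kernel

theorem loc_add (s : Fin 8 → Fin 8) (e : Fin 8 → ZMod 2) (u v : Vec8) :
    loc s e (u + v) = loc s e u + loc s e v := by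
  funext k
  simp only [loc, Pi.add_apply]
  split
  · exact neg_add _ _
  · rfl

theorem swap_phi (y : L8) :
    loc swapFun 0 y.1 ∈ L8 ∧ phi (loc swapFun 0 y.1) = (genMat 8).mulVec (phi y.1) := by
  refine L8_induction (P := fun y => loc swapFun 0 y ∈ L8 ∧ phi (loc swapFun 0 y) = (genMat 8).mulVec (phi y))
    (by decide +kernel) (fun i => ⟨(swap_gen i).1, (swap_gen i).2.1⟩) (fun i => ⟨?_, (swap_gen i).2.2⟩)
    (fun a ha b hb iha ihb => ?_) y.2
  · have : loc swapFun 0 (-gen8 i) = -loc swapFun 0 (gen8 i) := by funext k; simp [loc]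
    rw [this]
    exact neg_mem (swap_gen i).1
  · rw [loc_add, phi_add _ iha.1, phi_add _ ha, Matrix.mulVec_add, iha.2, ihb.2]
    exact ⟨add_mem iha.1 ihb.1, rfl⟩

theorem swap_perm : ∃ σ : Equiv.Perm (Fin 8), σ.sign = -1 ∧ ∀ m, σ m = swapFun m :=
  ⟨Equiv.swap 0 1, Equiv.Perm.sign_swap (by decide), by decide⟩

theorem tr_not_range : tr alphaV ∉ rho.range := by
  rintro ⟨g, hg⟩
  have hphi : ∀ y : L8, phi (actL g y).1 = phi (loc swapFun 0 y.1) := fun y => by
    rw [phi_rho, hg, mat_tr_alphaV, (swap_phi y).2]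
  have h0 : phi (actL g (eightL 0)).1 = phi (eightL 1).1 := by
    rw [hphi]
    exact congrArg phi (by decide +kernel : loc swapFun 0 (eightL 0).1 = (eightL 1).1)
  obtain ⟨τ, hτ, c, hc, s, hgm, hs⟩ := exists_mono_of_stdStab' g (stdStab_of_phi g h0)
  have hinj : Function.Injective s := fun a b e => pts_inj (τ.injective (by rw [hs, hs, e]))
  have hsw : s = swapFun := (loc_rigid hinj (by decide) (e := c ∘ pts)
    (fun y => by rw [← actL_mono hgm hs y]; exact hphi y)
    fun y => ⟨actL_mono hgm hs y ▸ (actL g y).2, (swap_phi y).1⟩).1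
  obtain ⟨σ, hσ, hval⟩ := swap_perm
  have hmem : M24Stab.onSet oct ⟨τ, hτ⟩ ∈ alternatingGroup ↥oct := by
    rw [← M24Stab.range_onSet oct_mem]; exact ⟨_, rfl⟩
  have he : M24Stab.onSet oct ⟨τ, hτ⟩ = ptsEquiv.permCongr σ := by
    refine Equiv.ext fun x => Subtype.ext ?_
    obtain ⟨m, rfl⟩ := ptsEquiv.surjective x
    rw [Equiv.permCongr_apply, Equiv.symm_apply_apply]
    show τ (pts m) = pts (σ m)
    rw [hs, hsw, hval]
  rw [Equiv.Perm.mem_alternatingGroup, he, Equiv.Perm.sign_permCongr, hσ] at hmem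
  exact absurd hmem (by decide)

theorem range_rho : rho.range = Omega (ZMod 2) (quadFormPlus 4 (ZMod 2)) :=
  eq_omega gen_in_range tr_not_range

/-- A kernel element is monomial, fixes the octad pointwise and has constant signs there. -/
theorem ker_rho {g : Cent} (hg : rho g = 1) :
    ∃ (τ : Equiv.Perm GolayPt) (hτ : τ ∈ M24Stab.ptStab oct) (c : GolayPt → ZMod 2) (hc : c ∈ golayCode),
      g.1 = monoEl τ (M24Stab.mem_ptStab.1 hτ).1 c hc ∧ ∀ p ∈ oct, c p = c none := by
  have hphi : ∀ y : L8, phi (actL g y).1 = phi (loc id 0 y.1) := fun y => by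
    rw [phi_rho, hg, mat_one, Matrix.one_mulVec]
    exact congrArg phi (funext fun k => by simp [loc])
  have h0 : phi (actL g (eightL 0)).1 = phi (eightL 0).1 := by
    rw [hphi]
    exact congrArg phi (funext fun k => by simp [loc])
  obtain ⟨τ, hτ, c, hc, s, hgm, hs⟩ := exists_mono_of_stdStab' g (stdStab_of_phi g h0)
  have hinj : Function.Injective s := fun a b e => pts_inj (τ.injective (by rw [hs, hs, e]))
  obtain ⟨hsid, hcc⟩ := loc_rigid hinj Function.injective_id (e := c ∘ pts)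
    (fun y => by rw [← actL_mono hgm hs y]; exact hphi y)
    fun y => ⟨actL_mono hgm hs y ▸ (actL g y).2, by
      rw [show loc id 0 y.1 = y.1 from funext fun k => by simp [loc]]; exact y.2⟩
  refine ⟨τ, M24Stab.mem_ptStab.2 ⟨(M24Stab.mem_setStab.1 hτ).1, fun p hp => ?_⟩, c, hc, hgm, fun p hp => ?_⟩
  · obtain ⟨k, rfl⟩ := (mem_oct_iff p).1 hp
    rw [hs, hsid]; rfl
  · obtain ⟨k, rfl⟩ := (mem_oct_iff p).1 hp
    exact hcc k

theorem rho_eq_one_of_fix {g : Cent} (h : ∀ v : leechLattice, (∀ p, p ∉ oct → (v : GolayPt → ℤ) p = 0) →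
    g.1 • v = v ∨ g.1 • v = -v) : rho g = 1 := by
  refine mat_injective ?_
  rw [mat_rho, mat_one]
  refine rhoMat_ext fun j => ?_
  have hv := h (liftL (liftE j)) (liftL_supported _)
  have key : phi (actL g (liftE j)).1 = phi (lift j) := by
    rcases hv with hv | hv
    · rw [show actL g (liftE j) = liftE j from liftL_injective (by rw [liftL_actL, hv])]; rfl
    · have : actL g (liftE j) = -liftE j := liftL_injective (by
        rw [liftL_actL, hv]
        exact Subtype.ext (funext fun p => by simp [liftL, emb, Pi.single_neg, Finset.sum_neg_distrib]))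
      rw [this]
      show phiHom (-liftE j) = phiHom (liftE j)
      rw [map_neg]
      exact funext fun i => ZMod.neg_eq_self_mod_two _
  rw [key]
  funext i
  simp [phi_lift, Matrix.one_apply, Pi.single_apply]

end CfsgLib.ConwayInvol
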