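import Cfsg.Agent.Lib.Leech.Check
import Cfsg.Agent.Lib.Leech.Gens
import Cfsg.Agent.Lib.M24Orbits.Suborbits
import Cfsg.Agent.Lib.F2Quad.Basic

/-! The vectors of the Leech lattice supported on an octad, modulo two. -/

set_option autoImplicit false

namespace CfsgLib.ConwayInvol

open Cfsg CfsgLib CfsgLib.Leech

/-- The mask of the octad: the union of two tetrads of the standard sextet. -/
def octMask : ℕ := 8657159

/-- The octad. -/
def oct : Finset GolayPt := Golay.toSet octMask

theorem oct_mem : oct ∈ octads := M24Orbits.mem_octads_of_isOct (by decide +kernel)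

/-- The eight points of the octad. -/
def pts : Fin 8 → GolayPt :=
  ![none, Golay.pt 0, Golay.pt 1, Golay.pt 2, Golay.pt 8, Golay.pt 11, Golay.pt 12, Golay.pt 18]

theorem pts_inj : Function.Injective pts := by decide +kernel

theorem mem_oct_iff : ∀ p, p ∈ oct ↔ ∃ k, pts k = p := by decide +kernel

theorem pts_mem (k : Fin 8) : pts k ∈ oct := (mem_oct_iff _).2 ⟨k, rfl⟩

/-- Vectors on the eight points. -/
abbrev Vec8 : Type := Fin 8 → ℤ

/-- Extension by zero. -/
def emb (y : Vec8) : GolayPt → ℤ := ∑ k, Pi.single (pts k) (y k)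

/-- Restriction. -/
def res (x : GolayPt → ℤ) : Vec8 := x ∘ pts

theorem emb_pts (y : Vec8) (k : Fin 8) : emb y (pts k) = y k := by
  simp [emb, Pi.single_apply, pts_inj.eq_iff]

theorem res_emb (y : Vec8) : res (emb y) = y := funext (emb_pts y)

theorem emb_off (y : Vec8) {p : GolayPt} (hp : p ∉ oct) : emb y p = 0 := by
  have h : ∀ k, p ≠ pts k := fun k e => hp (e ▸ pts_mem k)
  simp [emb, Pi.single_apply, h]

theorem emb_res {x : GolayPt → ℤ} (hx : ∀ p, p ∉ oct → x p = 0) : emb (res x) = x := by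
  funext p
  by_cases hp : p ∈ oct
  · obtain ⟨k, rfl⟩ := (mem_oct_iff p).1 hp
    rw [emb_pts]; rfl
  · rw [emb_off _ hp, hx p hp]

theorem emb_add (u v : Vec8) : emb (u + v) = emb u + emb v := by
  simp [emb, Pi.single_add, Finset.sum_add_distrib]

theorem sum_emb (y : Vec8) : ∑ p, emb y p = ∑ k, y k := by
  simp only [emb, Finset.sum_apply]
  rw [Finset.sum_comm]
  simp

/-- The lattice on the eight points. -/
def L8 : AddSubgroup Vec8 where
  carrier := {y | (∀ k, y k % 2 = 0) ∧ (∀ k, y k % 4 = y 0 % 4) ∧ (∑ k, y k) % 8 = 0}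
  zero_mem' := ⟨fun _ => rfl, fun _ => rfl, by simp⟩
  add_mem' := by
    rintro u v ⟨a1, a2, a3⟩ ⟨b1, b2, b3⟩
    refine ⟨fun k => ?_, fun k => ?_, ?_⟩
    · have := a1 k; have := b1 k; simp only [Pi.add_apply]; omega
    · have := a2 k; have := b2 k; simp only [Pi.add_apply]; omega
    · simp only [Pi.add_apply, Finset.sum_add_distrib]; omega
  neg_mem' := by
    rintro u ⟨a1, a2, a3⟩
    refine ⟨fun k => ?_, fun k => ?_, ?_⟩
    · have := a1 k; simp only [Pi.neg_apply]; omega
    · have := a2 k; simp only [Pi.neg_apply]; omega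
    · simp only [Pi.neg_apply, Finset.sum_neg_distrib]; omega

theorem mem_L8 {y : Vec8} :
    y ∈ L8 ↔ (∀ k, y k % 2 = 0) ∧ (∀ k, y k % 4 = y 0 % 4) ∧ (∑ k, y k) % 8 = 0 := Iff.rfl

instance (y : Vec8) : Decidable (y ∈ L8) := decidable_of_iff _ mem_L8.symm

theorem octad_words :
    Golay.allR (fun x => !(Nat.beq (Golay.comb x &&& (16777215 ^^^ octMask)) 0) ||
      Nat.beq (Golay.comb x) 0 || Nat.beq (Golay.comb x) octMask) 12 0 = true := by
  decide +kernel

theorem word_on_oct {w : GolayPt → ZMod 2} (hw : w ∈ golayCode) (h0 : ∀ p, p ∉ oct → w p = 0) :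
    w = 0 ∨ w = Golay.toWord octMask := by
  obtain ⟨x, hx, rfl⟩ := Golay.mem_golay_iff.1 hw
  have h := Golay.allR_spec octad_words x (Nat.zero_le _) (by simpa using hx)
  simp only [Bool.or_eq_true, Bool.not_eq_true', Nat.beq_eq] at h
  rcases h with (h | h) | h
  · exfalso
    rw [← Bool.not_eq_true, Nat.beq_eq] at h
    refine h (Nat.zero_of_testBit_eq_false fun j => ?_)
    by_contra hj
    rw [Bool.not_eq_false, Nat.testBit_and, Bool.and_eq_true] at hj
    have hj24 : j < 24 := by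
      by_contra hle
      have := Nat.testBit_lt_two_pow (x := Golay.comb x)
        ((Golay.comb_lt hx).trans_le (Nat.pow_le_pow_right (by norm_num) (not_lt.1 hle)))
      rw [this] at hj; exact Bool.false_ne_true hj.1
    have hp : Golay.pt j ∉ oct := by
      rw [oct, Golay.mem_toSet, Golay.bit_pt hj24]
      have hb := hj.2
      rw [Nat.testBit_xor, show (16777215 : ℕ).testBit j = true from ?_] at hb
      · intro h'; rw [h'] at hb; exact absurd hb (by decide)
      · have : ∀ i < 24, (16777215 : ℕ).testBit i = true := by decide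
        exact this j hj24
    have := h0 _ hp
    rw [Golay.toWord, Golay.bit_pt hj24, hj.1] at this
    exact absurd this (by decide)
  · exact Or.inl (by rw [h, Golay.toWord_zero])
  · exact Or.inr (by rw [h])

theorem off_oct : (Golay.pt 3) ∉ oct := by decide +kernel

theorem emb_mem {y : Vec8} : emb y ∈ leechLattice ↔ y ∈ L8 := by
  have hn : emb y none = y 0 := emb_pts y 0
  rw [mem_leech_iff, IsLeech, sum_emb, hn, mem_L8]
  constructor
  · rintro ⟨hp, hb, hs⟩
    have h0 : y 0 % 2 = 0 := by have := hp (Golay.pt 3); rw [emb_off y off_oct] at this; omega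
    have hev : ∀ k, y k % 2 = 0 := fun k => by have := hp (pts k); rw [emb_pts] at this; omega
    refine ⟨hev, fun k => ?_, by omega⟩
    have hw := word_on_oct hb fun p hp' => by simp [bits, emb_off y hp', bit]
    have hk : bits (emb y) (pts k) = bits (emb y) (pts 0) := by
      rcases hw with hw | hw <;> rw [hw]
      · rfl
      · simp only [Golay.toWord]
        rw [if_pos (Golay.mem_toSet.1 (pts_mem k)), if_pos (Golay.mem_toSet.1 (pts_mem 0))]
    simp only [bits, emb_pts] at hk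
    have := hev k
    rcases zmod_cast_even_or_odd (y k / 2) with ⟨h, h'⟩ | ⟨h, h'⟩ <;>
      rcases zmod_cast_even_or_odd (y 0 / 2) with ⟨g, g'⟩ | ⟨g, g'⟩ <;>
      simp only [bit, h', g'] at hk <;> first | omega | exact absurd hk (by decide)
  · rintro ⟨hev, h4, hs⟩
    refine ⟨fun p => ?_, ?_, by have := hev 0; omega⟩
    · by_cases hp : p ∈ oct
      · obtain ⟨k, rfl⟩ := (mem_oct_iff p).1 hp
        rw [emb_pts, hev k, hev 0]
      · rw [emb_off y hp, hev 0]; rfl
    · have e : bits (emb y) = bit (y 0) • Golay.toWord octMask := by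
        funext p
        simp only [bits, Pi.smul_apply, smul_eq_mul, Golay.toWord]
        by_cases hp : p ∈ oct
        · obtain ⟨k, rfl⟩ := (mem_oct_iff p).1 hp
          rw [if_pos (Golay.mem_toSet.1 (pts_mem k)), emb_pts, mul_one]
          have := hev k; have := hev 0; have := h4 k
          rcases zmod_cast_even_or_odd (y k / 2) with ⟨h, h'⟩ | ⟨h, h'⟩ <;>
            rcases zmod_cast_even_or_odd (y 0 / 2) with ⟨g, g'⟩ | ⟨g, g'⟩ <;>
            simp only [bit, h', g'] <;> omega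
        · rw [emb_off y hp, if_neg (fun h => hp (Golay.mem_toSet.2 h)), mul_zero]
          rfl
      rw [e]
      exact golayCode.smul_mem _ ((Golay.toWord_mem_iff (by decide)).2 (by decide +kernel))

/-- Generators. -/
def gen8 : Fin 9 → Vec8 :=
  ![![-4, 4, 0, 0, 0, 0, 0, 0], ![-4, 0, 4, 0, 0, 0, 0, 0], ![-4, 0, 0, 4, 0, 0, 0, 0],
    ![-4, 0, 0, 0, 4, 0, 0, 0], ![-4, 0, 0, 0, 0, 4, 0, 0], ![-4, 0, 0, 0, 0, 0, 4, 0],
    ![-4, 0, 0, 0, 0, 0, 0, 4], ![8, 0, 0, 0, 0, 0, 0, 0], ![2, 2, 2, 2, 2, 2, 2, 2]]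

theorem gen8_mem : ∀ i, gen8 i ∈ L8 := by decide +kernel

theorem L8_induction {P : Vec8 → Prop} (hz : P 0) (hgen : ∀ i, P (gen8 i)) (hneg : ∀ i, P (-gen8 i))
    (hadd : ∀ u ∈ L8, ∀ v ∈ L8, P u → P v → P (u + v)) {y : Vec8} (hy : y ∈ L8) : P y := by
  obtain ⟨hev, h4, hs⟩ := mem_L8.1 hy
  simp only [Fin.sum_univ_eight] at hs
  have e0 := hev 0
  have e1 := h4 1; have e2 := h4 2; have e3 := h4 3; have e4 := h4 4; have e5 := h4 5; have e6 := h4 6
  have e7 := h4 7
  let c : ℤ := y 0 % 4 / 2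
  let n : Fin 9 → ℤ :=
    ![(y 1 - 2 * c) / 4, (y 2 - 2 * c) / 4, (y 3 - 2 * c) / 4, (y 4 - 2 * c) / 4, (y 5 - 2 * c) / 4,
      (y 6 - 2 * c) / 4, (y 7 - 2 * c) / 4,
      ((∑ k, y k) - 16 * c) / 8, c]
  have e : y = ∑ i, n i • gen8 i := by
    funext k
    simp only [Finset.sum_apply, Fin.sum_univ_succ, Fin.sum_univ_zero, Pi.smul_apply, smul_eq_mul]
    fin_cases k <;> simp [n, gen8, c, Fin.sum_univ_eight] <;> omega
  have hsm : ∀ (i : Fin 9) (m : ℤ), P (m • gen8 i) := by
    intro i m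
    induction m using Int.induction_on with
    | zero => simpa using hz
    | succ j ih => rw [add_smul, one_smul]; exact hadd _ (zsmul_mem (gen8_mem i) _) _ (gen8_mem i) ih (hgen i)
    | pred j ih =>
      rw [sub_smul, one_smul, sub_eq_add_neg]
      exact hadd _ (zsmul_mem (gen8_mem i) _) _ (neg_mem (gen8_mem i)) ih (hneg i)
  rw [e]
  have hind : ∀ s : Finset (Fin 9), P (∑ i ∈ s, n i • gen8 i) := by
    intro s
    induction s using Finset.induction_on with
    | empty => simpa using hz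
    | insert i s hi ih =>
      rw [Finset.sum_insert hi]
      exact hadd _ (zsmul_mem (gen8_mem i) _) _ (sum_mem fun j _ => zsmul_mem (gen8_mem j) _) (hsm _ _) ih
  exact hind _

/-- The unscaled product. -/
def dot8 (u v : Vec8) : ℤ := ∑ k, u k * v k

theorem dot8_add_left (u v w : Vec8) : dot8 (u + v) w = dot8 u w + dot8 v w := by
  simp [dot8, add_mul, Finset.sum_add_distrib]

theorem dot8_add_right (u v w : Vec8) : dot8 w (u + v) = dot8 w u + dot8 w v := by
  simp [dot8, mul_add, Finset.sum_add_distrib]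

theorem dot8_comm (u v : Vec8) : dot8 u v = dot8 v u := by simp [dot8, mul_comm]

theorem gen8_dvd : ∀ i j, dot8 (gen8 i) (gen8 j) % 16 = 0 := by decide +kernel

theorem dvd_dot8 {u v : Vec8} (hu : u ∈ L8) (hv : v ∈ L8) : dot8 u v % 16 = 0 := by
  refine L8_induction (P := fun u => dot8 u v % 16 = 0) (by simp [dot8]) (fun i => ?_) (fun i => ?_)
    (fun a _ b _ ha hb => by rw [dot8_add_left]; omega) hu
  · refine L8_induction (P := fun v => dot8 (gen8 i) v % 16 = 0) (by simp [dot8]) (gen8_dvd i)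
      (fun j => ?_) (fun a _ b _ ha hb => by rw [dot8_add_right]; omega) hv
    have := gen8_dvd i j
    simp only [dot8, Pi.neg_apply, mul_neg, Finset.sum_neg_distrib] at this ⊢
    omega
  · refine L8_induction (P := fun v => dot8 (-gen8 i) v % 16 = 0) (by simp [dot8]) (fun j => ?_)
      (fun j => ?_) (fun a _ b _ ha hb => by rw [dot8_add_right]; omega) hv
    all_goals
      have := gen8_dvd i j
      simp only [dot8, Pi.neg_apply, neg_mul, mul_neg, neg_neg, Finset.sum_neg_distrib] at this ⊢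
      omega

/-- The scaled product modulo two. -/
def ip (u v : Vec8) : ZMod 2 := ((dot8 u v / 16 : ℤ) : ZMod 2)

theorem ip_add_left {u v w : Vec8} (hu : u ∈ L8) (hw : w ∈ L8) : ip (u + v) w = ip u w + ip v w := by
  rw [ip, ip, ip, dot8_add_left, Int.add_ediv_of_dvd_left (Int.dvd_of_emod_eq_zero (dvd_dot8 hu hw))]
  push_cast
  rfl

theorem ip_comm (u v : Vec8) : ip u v = ip v u := by rw [ip, dot8_comm]; rfl

theorem ip_add_right {u v w : Vec8} (hu : u ∈ L8) (hw : w ∈ L8) : ip w (u + v) = ip w u + ip w v := by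
  rw [ip_comm, ip_add_left hu hw, ip_comm, ip_comm v]

/-- Coordinate space. -/
abbrev V : Type := F2Quad.Vec 4

/-- The first half of the hyperbolic frame. -/
def hA : Fin 4 → Vec8 :=
  ![![2, -2, -2, -2, 2, 2, -6, -2], ![0, 4, 0, -4, 4, 0, -4, 0], ![-2, 2, -2, -2, -6, -2, -2, -2],
    ![2, -2, -2, 6, -2, -2, -2, 2]]

/-- The second half of the hyperbolic frame. -/
def hB : Fin 4 → Vec8 :=
  ![![-2, -2, -6, 2, 2, -2, -2, 2], ![0, -4, 0, -4, 4, 4, 0, 0], ![2, 2, -6, -2, 2, -2, -2, -2],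
    ![0, 0, 0, 4, 0, -4, 4, -4]]

/-- The lifts of the unit vectors. -/
def lift : Fin 4 ⊕ Fin 4 → Vec8 := Sum.elim hA hB

theorem lift_mem : ∀ j, lift j ∈ L8 := by decide +kernel

/-- Coordinates modulo two. -/
def phi (y : Vec8) : V := Sum.elim (fun i => ip y (hB i)) (fun i => ip y (hA i))

theorem hA_mem (i : Fin 4) : hA i ∈ L8 := lift_mem (.inl i)

theorem hB_mem (i : Fin 4) : hB i ∈ L8 := lift_mem (.inr i)

theorem phi_add {u : Vec8} (v : Vec8) (hu : u ∈ L8) : phi (u + v) = phi u + phi v := by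
  funext j
  rcases j with i | i
  · exact ip_add_left hu (hB_mem i)
  · exact ip_add_left hu (hA_mem i)

/-- The coordinate map. -/
def phiHom : L8 →+ V := AddMonoidHom.mk' (fun y => phi y.1) fun u v => phi_add v.1 u.2

theorem phi_lift : ∀ j, phi (lift j) = Pi.single j 1 := by decide +kernel

/-- The half squared length modulo two. -/
def qv (y : Vec8) : ZMod 2 := ((dot8 y y / 32 : ℤ) : ZMod 2)

theorem gen8_ip : ∀ i j, ip (gen8 i) (gen8 j) = F2Quad.pol 4 (phi (gen8 i)) (phi (gen8 j)) ∧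
    ip (-gen8 i) (gen8 j) = F2Quad.pol 4 (phi (-gen8 i)) (phi (gen8 j)) := by decide +kernel

theorem gen8_qv : ∀ i, qv (gen8 i) = quadFormPlus 4 (ZMod 2) (phi (gen8 i)) ∧
    qv (-gen8 i) = quadFormPlus 4 (ZMod 2) (phi (-gen8 i)) ∧ dot8 (gen8 i) (gen8 i) % 32 = 0 := by
  decide +kernel

theorem ip_eq_pol {u v : Vec8} (hu : u ∈ L8) (hv : v ∈ L8) :
    ip u v = F2Quad.pol 4 (phi u) (phi v) := by
  have hz : phi 0 = 0 := by decide +kernel
  have hg : ∀ j, ∀ u ∈ L8, ip u (gen8 j) = F2Quad.pol 4 (phi u) (phi (gen8 j)) := fun j u hu => by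
    refine L8_induction (P := fun u => ip u (gen8 j) = F2Quad.pol 4 (phi u) (phi (gen8 j))) ?_
      (fun i => (gen8_ip i j).1) (fun i => (gen8_ip i j).2) (fun a ha b _ iha ihb => ?_) hu
    · simp [ip, dot8, hz, F2Quad.pol]
    · rw [ip_add_left ha (gen8_mem j), phi_add b ha, F2Quad.pol_add_left, iha, ihb]
  refine L8_induction (P := fun v => ip u v = F2Quad.pol 4 (phi u) (phi v)) ?_ (fun j => hg j u hu)
    (fun j => ?_) (fun a ha b _ iha ihb => ?_) hv
  · simp [ip, dot8, hz, F2Quad.pol]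
  · have h0 : ip u (gen8 j + -gen8 j) = 0 := by simp [ip, dot8]
    rw [ip_add_right (gen8_mem j) hu, hg j u hu, add_eq_zero_iff_eq_neg] at h0
    have h1 : phi (gen8 j + -gen8 j) = 0 := by rw [add_neg_cancel, hz]
    rw [phi_add _ (gen8_mem j), add_eq_zero_iff_eq_neg] at h1
    rw [F2Quad.pol_comm 4 _ (phi (-gen8 j))]
    have h2 : phi (-gen8 j) = phi (gen8 j) := by
      rw [h1]
      funext k
      exact (ZMod.neg_eq_self_mod_two _).symm
    rw [h2, F2Quad.pol_comm, h0, ZMod.neg_eq_self_mod_two]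
  · rw [ip_add_right ha hu, phi_add b ha, iha, ihb, F2Quad.pol_comm 4 _ (phi a + phi b),
      F2Quad.pol_add_left, F2Quad.pol_comm 4 (phi a), F2Quad.pol_comm 4 (phi b)]

theorem dvd_dot8_self {y : Vec8} (hy : y ∈ L8) : dot8 y y % 32 = 0 := by
  refine L8_induction (P := fun y => dot8 y y % 32 = 0) (by simp [dot8]) (fun i => (gen8_qv i).2.2)
    (fun i => ?_) (fun a ha b hb iha ihb => ?_) hy
  · have := (gen8_qv i).2.2
    simp only [dot8, Pi.neg_apply, neg_mul, mul_neg, neg_neg] at this ⊢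
    exact this
  · have := dvd_dot8 ha hb
    rw [dot8_add_left, dot8_add_right, dot8_add_right, dot8_comm b a]
    omega

theorem qv_eq {y : Vec8} (hy : y ∈ L8) : qv y = quadFormPlus 4 (ZMod 2) (phi y) := by
  refine L8_induction (P := fun y => qv y = quadFormPlus 4 (ZMod 2) (phi y)) (by decide +kernel)
    (fun i => (gen8_qv i).1) (fun i => (gen8_qv i).2.1) (fun a ha b hb iha ihb => ?_) hy
  rw [phi_add b ha, F2Quad.qp_add, ← iha, ← ihb, ← ip_eq_pol ha hb, qv, qv, qv, ip, dot8_add_left,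
    dot8_add_right, dot8_add_right, dot8_comm b a]
  have := dvd_dot8 ha hb
  have := dvd_dot8_self ha
  have := dvd_dot8_self hb
  rw [show (dot8 a a + dot8 a b + (dot8 a b + dot8 b b)) / 32 =
    dot8 a a / 32 + dot8 b b / 32 + dot8 a b / 16 by omega]
  push_cast
  rfl

theorem of_phi_eq_zero {y : Vec8} (hy : y ∈ L8) (h : phi y = 0) : ∃ z ∈ L8, y = 2 • z := by
  have key : ∀ w ∈ L8, dot8 y w % 32 = 0 := fun w hw => by
    have h1 := ip_eq_pol hy hw
    rw [h, show F2Quad.pol 4 0 (phi w) = 0 by simp [F2Quad.pol], ip,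
      ZMod.intCast_zmod_eq_zero_iff_dvd] at h1
    have := dvd_dot8 hy hw
    push_cast at h1
    omega
  have hp : ∀ k l : Fin 8, k ≠ l → (Pi.single k 4 + Pi.single l 4 : Vec8) ∈ L8 := by decide +kernel
  have he : ∀ k : Fin 8, (Pi.single k 8 : Vec8) ∈ L8 := by decide +kernel
  have h4 : ∀ k, y k % 4 = 0 := fun k => by
    have := key _ (he k)
    simp [dot8, Pi.single_apply] at this
    omega
  have h8 : ∀ k, k ≠ 0 → (y k + y 0) % 8 = 0 := fun k hk => by
    have := key _ (hp k 0 hk)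
    simp [dot8, Pi.single_apply, mul_add, Finset.sum_add_distrib] at this
    omega
  have hs : (∑ k, y k) % 16 = 0 := by
    have := key _ (gen8_mem 8)
    rw [dot8, show gen8 8 = fun _ => (2 : ℤ) by decide +kernel, ← Finset.sum_mul] at this
    omega
  simp only [Fin.sum_univ_eight] at hs
  refine ⟨fun k => y k / 2, mem_L8.2 ⟨fun k => by have := h4 k; omega, fun k => ?_, ?_⟩, ?_⟩
  · by_cases hk : k = 0
    · rw [hk]
    · have := h8 k hk; have := h4 k; have := h4 0; omega
  · simp only [Fin.sum_univ_eight]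
    have := h4 0; have := h4 1; have := h4 2; have := h4 3; have := h4 4; have := h4 5; have := h4 6
    have := h4 7
    omega
  · funext k
    have := h4 k
    simp only [Pi.smul_apply, nsmul_eq_mul]
    push_cast
    omega

end CfsgLib.ConwayInvol
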