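import Cfsg.Agent.Lib.ConwayInvol.Image
import Cfsg.Agent.Lib.Linear.Symplectic

/-! The stabiliser of a non-singular vector in the eight-dimensional orthogonal group over two elements
maps onto the six-dimensional symplectic group. -/

set_option autoImplicit false

namespace CfsgLib.ConwayInvol

open Cfsg CfsgLib Matrix

/-- The six-dimensional space. -/
abbrev W6 : Type := Fin 3 ⊕ Fin 3 → ZMod 2

/-- The non-singular vector. -/
def pv : V := decV 39

/-- A symplectic frame of the orthogonal space of the vector. -/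
def fr : Fin 3 ⊕ Fin 3 → V := Sum.elim ![decV 1, decV 4, decV 8] ![decV 18, decV 66, decV 128]

/-- A vector not orthogonal to the fixed one. -/
def ev8 : V := decV 2

/-- The coordinates in the frame. -/
def co (x : V) : W6 :=
  Sum.elim (fun i => F2Quad.pol 4 x (fr (.inr i))) (fun i => F2Quad.pol 4 x (fr (.inl i)))

/-- The combination with given coordinates. -/
def comb6 (a : W6) : V := ∑ j, a j • fr j

theorem pv_q : quadFormPlus 4 (ZMod 2) pv = 1 := by decide +kernel

theorem ev8_pol : F2Quad.pol 4 ev8 pv = 1 := by decide +kernel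

theorem fr_perp : ∀ j, F2Quad.pol 4 (fr j) pv = 0 := by decide +kernel

theorem co_fr : ∀ j, co (fr j) = Pi.single j 1 := by decide +kernel

theorem co_pv : co pv = 0 := by decide +kernel

theorem decompose : ∀ x : V, F2Quad.pol 4 x pv = 0 → x = comb6 (co x) ∨ x = comb6 (co x) + pv := by
  decide +kernel

theorem comb6_spec : ∀ a : W6, co (comb6 a) = a ∧ F2Quad.pol 4 (comb6 a) pv = 0 := by decide +kernel

theorem pol_comb6 : ∀ a b : W6, F2Quad.pol 4 (comb6 a) (comb6 b) = sympForm 3 (ZMod 2) a b := by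
  intro a b
  rw [Linear.Symp.sympForm_eq_sum]
  revert a b
  decide +kernel

theorem pol_zero_cases : ∀ z : V, (∀ j, F2Quad.pol 4 z (fr j) = 0) → F2Quad.pol 4 z pv = 0 → z = 0 ∨ z = pv := by
  decide +kernel

theorem co_add (x y : V) : co (x + y) = co x + co y := by
  funext j
  rcases j with i | i <;> exact F2Quad.pol_add_left 4 x y _

theorem pol_add_right' (x y z : V) : F2Quad.pol 4 x (y + z) = F2Quad.pol 4 x y + F2Quad.pol 4 x z := by
  rw [F2Quad.pol_comm, F2Quad.pol_add_left, F2Quad.pol_comm 4 y, F2Quad.pol_comm 4 z]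

theorem add_self' (x : V) : x + x = 0 := funext fun _j => CharTwo.add_self_eq_zero _

theorem smul_cases (c : ZMod 2) (x : V) : c • x = 0 ∨ c • x = x := by
  rcases F2Quad.zmod_two_cases c with h | h <;> rw [h]
  · exact Or.inl (zero_smul _ _)
  · exact Or.inr (one_smul _ _)

theorem q_isom (g : G8) (x : V) : quadFormPlus 4 (ZMod 2) (mat g *ᵥ x) = quadFormPlus 4 (ZMod 2) x :=
  g.2 x x

theorem pol_isom (g : G8) (x y : V) : F2Quad.pol 4 (mat g *ᵥ x) (mat g *ᵥ y) = F2Quad.pol 4 x y := by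
  rw [← F2Quad.pol_eq, ← F2Quad.pol_eq, ← Matrix.mulVec_add, q_isom, q_isom, q_isom]

/-- The stabiliser of the vector. -/
def pStab : Subgroup G8 where
  carrier := {g | mat g *ᵥ pv = pv}
  one_mem' := by show mat 1 *ᵥ pv = pv; rw [mat_one, one_mulVec]
  mul_mem' := fun {g h} (hg : _ = _) (hh : _ = _) => by
    show mat (g * h) *ᵥ pv = pv
    rw [mat_mul, ← mulVec_mulVec, hh, hg]
  inv_mem' := fun {g} (hg : _ = _) => by
    show mat g⁻¹ *ᵥ pv = pv
    conv_lhs => rw [← hg, mulVec_mulVec, ← mat_mul, inv_mul_cancel, mat_one, one_mulVec]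

theorem perp_mulVec {g : G8} (hg : g ∈ pStab) {x : V} (hx : F2Quad.pol 4 x pv = 0) :
    F2Quad.pol 4 (mat g *ᵥ x) pv = 0 := by
  rw [← show mat g *ᵥ pv = pv from hg, pol_isom, hx]

/-- The induced matrix. -/
def psiMat (g : G8) : Matrix (Fin 3 ⊕ Fin 3) (Fin 3 ⊕ Fin 3) (ZMod 2) :=
  Matrix.of fun i j => co (mat g *ᵥ fr j) i

theorem co_mulVec {g : G8} (hg : g ∈ pStab) {x : V} (hx : F2Quad.pol 4 x pv = 0) :
    co (mat g *ᵥ x) = psiMat g *ᵥ co x := by
  have h : co (mat g *ᵥ comb6 (co x)) = psiMat g *ᵥ co x := by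
    rw [comb6, Matrix.mulVec_sum]
    let coHom : V →+ W6 := AddMonoidHom.mk' co co_add
    show coHom _ = _
    rw [map_sum]
    funext i
    rw [Finset.sum_apply, Matrix.mulVec, dotProduct]
    refine Finset.sum_congr rfl fun j _ => ?_
    rcases F2Quad.zmod_two_cases (co x j) with e | e <;> rw [e]
    · rw [mul_zero, zero_smul, Matrix.mulVec_zero, map_zero]; rfl
    · rw [mul_one, one_smul]; rfl
  rcases decompose x hx with e | e
  · conv_lhs => rw [e]
    exact h
  · conv_lhs => rw [e, Matrix.mulVec_add, co_add, show mat g *ᵥ pv = pv from hg, co_pv, add_zero]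
    exact h

theorem form_co {x y : V} (hx : F2Quad.pol 4 x pv = 0) (hy : F2Quad.pol 4 y pv = 0) :
    F2Quad.pol 4 x y = sympForm 3 (ZMod 2) (co x) (co y) := by
  have hpx : F2Quad.pol 4 pv (comb6 (co y)) = 0 := by rw [F2Quad.pol_comm]; exact (comb6_spec _).2
  rw [← pol_comb6]
  rcases decompose x hx with e | e <;> rcases decompose y hy with e' | e' <;> conv_lhs => rw [e, e']
  · rw [pol_add_right', (comb6_spec _).2, add_zero]
  · rw [F2Quad.pol_add_left, hpx, add_zero]
  · rw [F2Quad.pol_add_left, pol_add_right', pol_add_right', (comb6_spec _).2, hpx, F2Quad.pol_self,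
      add_zero, add_zero, add_zero]

theorem psiMat_mem {g : G8} (hg : g ∈ pStab) : psiMat g ∈ symplecticGroup (Fin 3) (ZMod 2) := by
  refine Linear.Symp.mem_of_form_mulVec fun a b => ?_
  obtain ⟨ha, ha'⟩ := comb6_spec a
  obtain ⟨hb, hb'⟩ := comb6_spec b
  rw [← ha, ← hb, ← co_mulVec hg ha', ← co_mulVec hg hb', ← form_co (perp_mulVec hg ha') (perp_mulVec hg hb'),
    pol_isom, ← form_co ha' hb']

/-- The map to the symplectic group. -/
def psi : pStab →* symplecticGroup (Fin 3) (ZMod 2) where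
  toFun g := ⟨psiMat g.1, psiMat_mem g.2⟩
  map_one' := by
    refine Linear.Symp.group_ext fun a => ?_
    rw [Linear.Symp.smul_def, one_smul]
    show psiMat 1 *ᵥ a = a
    obtain ⟨ha, ha'⟩ := comb6_spec a
    rw [← ha, ← co_mulVec (one_mem _) ha', mat_one, one_mulVec]
  map_mul' g h := by
    refine Linear.Symp.group_ext fun a => ?_
    rw [Linear.Symp.smul_def, mul_smul, Linear.Symp.smul_def, Linear.Symp.smul_def]
    show psiMat (g.1 * h.1) *ᵥ a = psiMat g.1 *ᵥ (psiMat h.1 *ᵥ a)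
    obtain ⟨ha, ha'⟩ := comb6_spec a
    rw [← ha, ← co_mulVec (mul_mem g.2 h.2) ha', ← co_mulVec h.2 ha', ← co_mulVec g.2 (perp_mulVec h.2 ha'),
      mat_mul, mulVec_mulVec]

theorem psi_ker {g : pStab} (hg : psi g = 1) : g.1 = 1 ∨ g.1 = tr pv := by
  have hco : ∀ x, F2Quad.pol 4 x pv = 0 → co (mat g.1 *ᵥ x) = co x := fun x hx => by
    rw [co_mulVec g.2 hx]
    show (psi g).1 *ᵥ co x = co x
    rw [hg]
    exact one_mulVec _
  have hfix : ∀ x, F2Quad.pol 4 x pv = 0 → mat g.1 *ᵥ x = x := fun x hx => by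
    have h1 := hco x hx
    have hq := q_isom g.1 x
    have hp : F2Quad.pol 4 (comb6 (co x)) pv = 0 := (comb6_spec _).2
    rcases decompose _ (perp_mulVec g.2 hx) with e | e <;> rcases decompose x hx with e' | e' <;>
      rw [h1] at e
    · rw [e, ← e']
    · rw [e] at hq
      conv_rhs at hq => rw [e', F2Quad.qp_add, hp, pv_q, add_zero]
      exact absurd (left_eq_add.1 hq) one_ne_zero
    · rw [e, F2Quad.qp_add, hp, pv_q, add_zero] at hq
      conv_rhs at hq => rw [e']
      exact absurd (add_eq_left.1 hq) one_ne_zero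
    · rw [e, ← e']
  obtain ⟨z, hz⟩ : ∃ z, mat g.1 *ᵥ ev8 = ev8 + z := ⟨mat g.1 *ᵥ ev8 + ev8, by
    rw [add_left_comm, add_self', add_zero]⟩
  have hall : ∀ x, mat g.1 *ᵥ x = x + F2Quad.pol 4 x pv • z := fun x => by
    rcases F2Quad.zmod_two_cases (F2Quad.pol 4 x pv) with h | h
    · rw [h, zero_smul, add_zero, hfix x h]
    · have h' : F2Quad.pol 4 (x + ev8) pv = 0 := by
        rw [F2Quad.pol_add_left, h, ev8_pol]; exact CharTwo.add_self_eq_zero _
      have e : x = x + ev8 + ev8 := by rw [add_assoc, add_self', add_zero]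
      conv_lhs => rw [e, Matrix.mulVec_add, hfix _ h', hz]
      rw [h, one_smul, ← add_assoc, add_assoc x, add_self', add_zero]
  have hzperp : ∀ y, F2Quad.pol 4 y pv = 0 → F2Quad.pol 4 z y = 0 := fun y hy => by
    have h := pol_isom g.1 ev8 y
    rw [hz, hfix y hy, F2Quad.pol_add_left, add_eq_left] at h
    exact h
  rcases pol_zero_cases z (fun j => hzperp _ (fr_perp j)) (hzperp _ (F2Quad.pol_self 4 pv)) with h0 | h0
  · left
    refine mat_injective (Matrix.ext_of_mulVec_single fun j => ?_)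
    rw [hall, h0, smul_zero, add_zero, mat_one, one_mulVec]
  · right
    refine mat_injective (Matrix.ext_of_mulVec_single fun j => ?_)
    rw [hall, h0, tr_mulVec pv_q]

theorem tr_mem_pStab {x : V} (hq : quadFormPlus 4 (ZMod 2) x = 1) (hx : F2Quad.pol 4 x pv = 0) :
    tr x ∈ pStab := by
  show mat (tr x) *ᵥ pv = pv
  rw [tr_mulVec hq, F2Quad.pol_comm, hx, zero_smul, add_zero]

theorem exists_conj_alphaV {y : V} (hy : quadFormPlus 4 (ZMod 2) y = 1) :
    ∃ g : G8, tr y = g * tr alphaV * g⁻¹ := by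
  refine orbit_induction (P := fun y => ∃ g : G8, tr y = g * tr alphaV * g⁻¹) ⟨1, by simp⟩
    (fun k hk y ⟨g, hg⟩ => ?_) hy
  obtain ⟨x, hx⟩ : ∃ x : G8, mat x = genMat k := by
    rcases (show k < 8 ∨ k = 8 by omega) with hk' | rfl
    · obtain ⟨x, -, hx⟩ := gen_in_range k hk'; exact ⟨x, hx⟩
    · exact ⟨_, mat_tr_alphaV⟩
  exact ⟨x * g, by rw [← hx, ← conj_tr, hg]; group⟩

theorem tr_mul_tr_mem {x y : V} (hx : quadFormPlus 4 (ZMod 2) x = 1) (hy : quadFormPlus 4 (ZMod 2) y = 1) :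
    tr x * tr y ∈ Omega (ZMod 2) (quadFormPlus 4 (ZMod 2)) := by
  obtain ⟨g, hg⟩ := exists_conj_alphaV hx
  obtain ⟨h, hh⟩ := exists_conj_alphaV hy
  have he : tr x = g * h⁻¹ * tr y * (g * h⁻¹)⁻¹ := by rw [hg, hh]; group
  have hinv : (tr y)⁻¹ = tr y := inv_eq_of_mul_eq_one_right (tr_sq y)
  have hc := Subgroup.commutator_mem_commutator (Subgroup.mem_top (g * h⁻¹)) (Subgroup.mem_top (tr y))
  rw [commutatorElement_def, ← he, hinv] at hc
  exact hc

theorem tr_pv_not_mem : tr pv ∉ Omega (ZMod 2) (quadFormPlus 4 (ZMod 2)) := by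
  intro h
  refine tr_not_range ?_
  rw [range_rho]
  obtain ⟨g, hg⟩ := exists_conj_alphaV pv_q
  have e : tr alphaV = g⁻¹ * tr pv * g⁻¹⁻¹ := by rw [hg]; group
  rw [e]
  exact Subgroup.Normal.conj_mem inferInstance _ h _

/-- The stabiliser inside the commutator subgroup. -/
def omStab : Subgroup G8 := Omega (ZMod 2) (quadFormPlus 4 (ZMod 2)) ⊓ pStab

/-- The map from the stabiliser inside the commutator subgroup. -/
def psiOm : omStab →* symplecticGroup (Fin 3) (ZMod 2) := psi.comp (Subgroup.inclusion inf_le_right)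

theorem psiOm_injective : Function.Injective psiOm := by
  refine (injective_iff_map_eq_one psiOm).2 fun g hg => Subtype.ext ?_
  rcases psi_ker (g := ⟨g.1, g.2.2⟩) hg with h | h
  · exact h
  · exact absurd (show tr pv ∈ _ from h ▸ g.2.1) tr_pv_not_mem

theorem psiOm_surjective : Function.Surjective psiOm := by
  rw [← MonoidHom.range_eq_top, eq_top_iff, ← Linear.Symp.transvectionSubgroup_eq_top,
    Linear.Symp.transvectionSubgroup, Subgroup.closure_le]
  rintro A ⟨a, c, hA⟩
  obtain rfl : A = Linear.Symp.tv a c := Subtype.ext hA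
  rcases F2Quad.zmod_two_cases c with rfl | rfl
  · rw [Linear.Symp.tv_zero]; exact one_mem _
  obtain ⟨hco, hperp⟩ := comb6_spec a
  obtain ⟨x, hxq, hxp, hxc⟩ : ∃ x, quadFormPlus 4 (ZMod 2) x = 1 ∧ F2Quad.pol 4 x pv = 0 ∧ co x = a := by
    rcases F2Quad.zmod_two_cases (quadFormPlus 4 (ZMod 2) (comb6 a)) with h | h
    · refine ⟨comb6 a + pv, ?_, ?_, ?_⟩
      · rw [F2Quad.qp_add, h, hperp, pv_q, zero_add, add_zero]
      · rw [F2Quad.pol_add_left, hperp, F2Quad.pol_self, add_zero]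
      · rw [co_add, hco, co_pv, add_zero]
    · exact ⟨_, h, hperp, hco⟩
  have hmem : tr x * tr pv ∈ omStab :=
    ⟨tr_mul_tr_mem hxq pv_q, mul_mem (tr_mem_pStab hxq hxp) (tr_mem_pStab pv_q (F2Quad.pol_self 4 pv))⟩
  refine ⟨⟨_, hmem⟩, Linear.Symp.group_ext fun b => ?_⟩
  obtain ⟨hb, hb'⟩ := comb6_spec b
  rw [Linear.Symp.tv_smul, one_mul, Linear.Symp.smul_def]
  show psiMat (tr x * tr pv) *ᵥ b = _
  conv_lhs => rw [← hb, ← co_mulVec hmem.2 hb', mat_mul, ← mulVec_mulVec, tr_mulVec pv_q, hb', zero_smul,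
    add_zero, tr_mulVec hxq, co_add, hb]
  rw [← hxc, ← hb, ← form_co hb' hxp, hb]
  rcases F2Quad.zmod_two_cases (F2Quad.pol 4 (comb6 b) x) with h | h <;> rw [h]
  · rw [zero_smul, zero_smul]
    exact congrArg (b + ·) (by decide +kernel : co (0 : V) = 0)
  · rw [one_smul, one_smul]

/-- The stabiliser is the symplectic group. -/
noncomputable def omStabEquiv : omStab ≃* symplecticGroup (Fin 3) (ZMod 2) :=
  MulEquiv.ofBijective psiOm ⟨psiOm_injective, psiOm_surjective⟩

end CfsgLib.ConwayInvol
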