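import Cfsg.Agent.Lib.ConwayInvol.Image
import Cfsg.Agent.Lib.Leech.Simple.Co1
import Cfsg.Agent.Lib.M24Stab.Basic

/-! The elements of the code vanishing on the octad and the group they form with the pointwise stabilizer. -/

set_option autoImplicit false

namespace CfsgLib.ConwayInvol

open Cfsg CfsgLib CfsgLib.Leech

/-- The indices of the words vanishing on the octad. -/
def disList : List ℕ := [0, 56, 88, 96, 136, 176, 208, 232, 512, 568, 600, 608, 648, 688, 720, 744, 1040, 1064, 1096, 1136, 1176, 1184, 1216, 1272, 1552, 1576, 1608, 1648, 1688, 1696, 1728, 1784]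

/-- The elements fixing the octad pointwise. -/
def fixCodes : List ℕ := [566073426779046459040877649791461066728553822781039575296, 565590030733703776547708961277947535518416913739020370176, 565497976597283148896620388792440007661212960736084623616, 564826771699865144116819969230901605887293594878710251776, 565879248737089590915684818493926376034869217058334310656, 564534548826276224220057112816906079567078526606354022656, 565784208775660644668914169435344200289483806807234314496, 565306806268606000740619885841102074188127244153738363136, 565206152633715086502537355829738132537546032562451906816, 565978011166024005507128228268883726972034958469468651776, 564441014194406489722768604681124107670795946069944566016, 564343742445759500248231167703049461411260063378328125696, 564918045337319613929273727549223722383143641488585523456, 564633694122968125169133951010078665336906534186802872576, 565396215069934519489273550603331035704483704002259845376, 564251324406849937320689306417557828170292507614545838336]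

theorem disList_check :
    Golay.allR (fun x => !(Nat.beq (Golay.comb x &&& octMask) 0) || disList.any fun y => Nat.beq x y) 12 0 = true ∧
      (∀ x ∈ disList, x < 4096 ∧ Golay.comb x &&& octMask = 0) ∧ disList.Nodup ∧ disList.length = 32 := by
  decide +kernel

/-- The action of a coded permutation on masks, backwards. -/
noncomputable def pullMask (p m : ℕ) : ℕ :=
  Golay.bitsOf (fun i => m.testBit (Comp.PermCode.get p i)) 24

theorem fixCodes_check :
    (fixCodes.all fun p => M24Orbits.okM24 p && (List.range 24).all fun i =>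
      !(octMask.testBit i) || Nat.beq (Comp.PermCode.get p i) i) = true ∧
    M24Stab.distinctCodes [3] fixCodes = true ∧ fixCodes.length = 16 ∧
    (fixCodes.all fun p => disList.all fun x =>
      Nat.beq (Golay.comb x ^^^ pullMask p (Golay.comb x)) 0 ||
        Nat.beq (Golay.comb x ^^^ pullMask p (Golay.comb x)) (16777215 ^^^ octMask)) = true ∧
    (fixCodes.all fun p => (List.range 24).all (fun i => Nat.beq (Comp.PermCode.get p i) i) ||
      disList.any fun x => !(Nat.beq (Golay.comb x ^^^ pullMask p (Golay.comb x)) 0)) = true := by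
  decide +kernel

theorem fixCodes_mem {p : ℕ} (hp : p ∈ fixCodes) :
    Comp.PermCode.Ok 24 p ∧ M24Orbits.perm p ∈ M24Stab.ptStab oct := by
  have h := List.all_eq_true.1 fixCodes_check.1 p hp
  simp only [Bool.and_eq_true, List.all_eq_true, List.mem_range, Bool.or_eq_true, Bool.not_eq_true',
    Nat.beq_eq] at h
  refine ⟨M24Orbits.okM24_ok h.1, M24Stab.mem_ptStab.2 ⟨M24Orbits.perm_mem_M24 h.1,
    fun x hx => Golay.bit_injective ?_⟩⟩
  rw [M24Orbits.bit_perm (M24Orbits.okM24_ok h.1)]
  rw [oct, Golay.mem_toSet] at hx
  exact (h.2 (Golay.bit x) (Golay.bit_lt x)).resolve_left (by simp [hx])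

theorem exists_fixCode {σ : Equiv.Perm GolayPt} (hσ : σ ∈ M24Stab.ptStab oct) :
    ∃ p ∈ fixCodes, M24Orbits.perm p = σ := by
  have hn := M24Stab.nodup_perm (base := [3]) (by simp) (fun p hp => (fixCodes_mem hp).1) fixCodes_check.2.1
  have hcard : Nat.card (M24Stab.ptStab oct) ≤ fixCodes.length := by
    rw [fixCodes_check.2.2.1]
    exact (Golay.octad_pointwise oct_mem).1.le
  obtain ⟨p, hp, e⟩ := M24Stab.exists_code_of_card (fun p hp => (fixCodes_mem hp).2) hn hcard hσ
  exact ⟨p, hp, e⟩

theorem toWord_pullMask {p : ℕ} (hp : Comp.PermCode.Ok 24 p) (m : ℕ) :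
    Golay.toWord (pullMask p m) = Golay.toWord m ∘ M24Orbits.perm p := by
  funext x
  simp only [Golay.toWord, pullMask, Golay.testBit_bitsOf, Golay.bit_lt, decide_true, Bool.true_and,
    Function.comp_apply, M24Orbits.bit_perm hp]

/-- The word of the complement. -/
def coWord : GolayPt → ZMod 2 := Golay.toWord (16777215 ^^^ octMask)

theorem coWord_eq : coWord = 1 + octWord := by
  rw [coWord, Golay.toWord_xor, Golay.toWord_ones]
  rfl

theorem coWord_mem : coWord ∈ golayCode := coWord_eq ▸ golayCode.add_mem one_mem_golayCode octWord_mem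

theorem coWord_apply (p : GolayPt) : coWord p = if p ∈ oct then 0 else 1 := by
  rw [coWord_eq, Pi.add_apply, octWord_apply]
  split <;> rfl

theorem exists_disList {c : GolayPt → ZMod 2} (hc : c ∈ golayCode) (h0 : ∀ p ∈ oct, c p = 0) :
    ∃ x ∈ disList, Golay.toWord (Golay.comb x) = c := by
  obtain ⟨x, hx, rfl⟩ := Golay.mem_golay_iff.1 hc
  have h := Golay.allR_spec disList_check.1 x (Nat.zero_le _) (by simpa using hx)
  have hz : Golay.comb x &&& octMask = 0 := Nat.zero_of_testBit_eq_false fun j => by
    by_contra hj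
    rw [Bool.not_eq_false, Nat.testBit_and, Bool.and_eq_true] at hj
    have hj24 : j < 24 := by
      by_contra hle
      have := Nat.testBit_lt_two_pow (x := Golay.comb x)
        ((Golay.comb_lt hx).trans_le (Nat.pow_le_pow_right (by norm_num) (not_lt.1 hle)))
      rw [this] at hj; exact Bool.false_ne_true hj.1
    have := h0 (Golay.pt j) (by rw [oct, Golay.mem_toSet, Golay.bit_pt hj24]; exact hj.2)
    rw [Golay.toWord, Golay.bit_pt hj24, hj.1] at this
    exact absurd this (by decide)
  rw [hz] at h
  simp only [Nat.beq_refl, Bool.not_true, Bool.false_or, List.any_eq_true, Nat.beq_eq] at h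
  obtain ⟨y, hy, rfl⟩ := h
  exact ⟨_, hy, rfl⟩

theorem disList_vanish {x : ℕ} (hx : x ∈ disList) :
    Golay.toWord (Golay.comb x) ∈ golayCode ∧ ∀ p ∈ oct, Golay.toWord (Golay.comb x) p = 0 := by
  refine ⟨Golay.toWord_comb_mem x, fun p hp => ?_⟩
  rw [oct, Golay.mem_toSet] at hp
  have h := congrArg (fun n => n.testBit (Golay.bit p)) (disList_check.2.1 x hx).2
  simp only [Nat.testBit_and, hp, Bool.and_true, Nat.zero_testBit] at h
  simp [Golay.toWord, h]

/-- The key fact: a translation changes such a word by a multiple of the complement. -/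
theorem translate {σ : Equiv.Perm GolayPt} (hσ : σ ∈ M24Stab.ptStab oct) {c : GolayPt → ZMod 2}
    (hc : c ∈ golayCode) (h0 : ∀ p ∈ oct, c p = 0) : c + c ∘ σ = 0 ∨ c + c ∘ σ = coWord := by
  obtain ⟨p, hp, rfl⟩ := exists_fixCode hσ
  obtain ⟨x, hx, rfl⟩ := exists_disList hc h0
  have h := List.all_eq_true.1 (List.all_eq_true.1 fixCodes_check.2.2.2.1 p hp) x hx
  rw [← toWord_pullMask (fixCodes_mem hp).1, ← Golay.toWord_xor]
  simp only [Bool.or_eq_true, Nat.beq_eq] at h
  rcases h with h | h <;> rw [h]
  · exact Or.inl Golay.toWord_zero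
  · exact Or.inr rfl

/-- A non-identity translation moves some word. -/
theorem exists_moved {σ : Equiv.Perm GolayPt} (hσ : σ ∈ M24Stab.ptStab oct) (h1 : σ ≠ 1) :
    ∃ c ∈ golayCode, (∀ p ∈ oct, c p = 0) ∧ c + c ∘ σ ≠ 0 := by
  obtain ⟨p, hp, rfl⟩ := exists_fixCode hσ
  have h := List.all_eq_true.1 fixCodes_check.2.2.2.2 p hp
  rw [Bool.or_eq_true] at h
  rcases h with h | h
  · refine absurd (Equiv.ext fun x => Golay.bit_injective ?_) h1
    rw [M24Orbits.bit_perm (fixCodes_mem hp).1]
    exact Nat.eq_of_beq_eq_true (List.all_eq_true.1 h _ (List.mem_range.2 (Golay.bit_lt x)))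
  · obtain ⟨x, hx, hne⟩ := List.any_eq_true.1 h
    refine ⟨_, (disList_vanish hx).1, (disList_vanish hx).2, fun e => ?_⟩
    rw [← toWord_pullMask (fixCodes_mem hp).1, ← Golay.toWord_xor, ← Golay.toWord_zero] at e
    have hlt : Golay.comb x ^^^ pullMask p (Golay.comb x) < 2 ^ 24 :=
      Nat.xor_lt_two_pow (Golay.comb_lt (disList_check.2.1 x hx).1) (Golay.bitsOf_lt _ _)
    rw [Golay.toWord_inj hlt (by norm_num) e] at hne
    exact absurd hne (by decide)

theorem ptStab_comm {σ σ' : Equiv.Perm GolayPt} (h : σ ∈ M24Stab.ptStab oct) (h' : σ' ∈ M24Stab.ptStab oct) :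
    σ * σ' = σ' * σ := by
  have hsq := (Golay.octad_pointwise oct_mem).2
  have h1 := inv_eq_of_mul_eq_one_right (hsq _ (mul_mem h h'))
  rw [_root_.mul_inv_rev, inv_eq_of_mul_eq_one_right (hsq _ h), inv_eq_of_mul_eq_one_right (hsq _ h')] at h1
  exact h1.symm

/-- A word vanishing on the octad and fixed by the translations is trivial or the complement. -/
theorem eq_of_invariant {c : GolayPt → ZMod 2} (hc : c ∈ golayCode)
    (hinv : ∀ σ ∈ M24Stab.ptStab oct, c ∘ σ = c) :
    ∃ a : ZMod 2, c + a • (1 : GolayPt → ZMod 2) = 0 ∨ c + a • (1 : GolayPt → ZMod 2) = octWord := by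
  refine ⟨c (Golay.pt 3), word_on_oct (golayCode.add_mem hc (golayCode.smul_mem _ one_mem_golayCode)) fun p hp => ?_⟩
  obtain ⟨g, hg, e⟩ := (M24Stab.regular oct_mem off_oct).1 p hp
  have h := congrFun (hinv g hg) (Golay.pt 3)
  rw [Function.comp_apply, e] at h
  simp [h, CharTwo.add_self_eq_zero]

theorem separate_check :
    ((List.range 24).all fun i => (List.range 24).all fun j => octMask.testBit i || octMask.testBit j ||
      Nat.beq i j || disList.any fun x => !((Golay.comb x).testBit i) && (Golay.comb x).testBit j) = true := by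
  decide +kernel

theorem separate {p q : GolayPt} (hp : p ∉ oct) (hq : q ∉ oct) (h : q ≠ p) :
    ∃ c ∈ golayCode, (∀ r ∈ oct, c r = 0) ∧ c p = 0 ∧ c q = 1 := by
  have h1 := List.all_eq_true.1 (List.all_eq_true.1 separate_check (Golay.bit p)
    (List.mem_range.2 (Golay.bit_lt p))) (Golay.bit q) (List.mem_range.2 (Golay.bit_lt q))
  rw [oct, Golay.mem_toSet, Bool.not_eq_true] at hp hq
  have hne : Nat.beq (Golay.bit p) (Golay.bit q) = false := by
    rw [← Bool.not_eq_true, Nat.beq_eq]
    exact fun e => h (Golay.bit_injective e.symm)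
  simp only [hp, hq, hne, Bool.false_or, List.any_eq_true, Bool.and_eq_true, Bool.not_eq_true'] at h1
  obtain ⟨x, hx, hxp, hxq⟩ := h1
  exact ⟨_, (disList_vanish hx).1, (disList_vanish hx).2, by simp [Golay.toWord, hxp], by simp [Golay.toWord, hxq]⟩

end CfsgLib.ConwayInvol
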